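import Mathlib
import Groth.Agent.Cohen12.Finite
import Groth.Agent.CAlg6.CompleteSurj
import Groth.Agent.SGA3a.FiniteComplete

/-!
The completed module of differentials of a complete local algebra, relative to a power series ring.
-/

set_option autoImplicit false

open IsLocalRing

namespace Groth.Agent.OmegaHat14

universe u

variable (k A : Type u) [Field k] [CommRing A] [IsLocalRing A] [IsNoetherianRing A] [Algebra k A]
  [IsAdicComplete (maximalIdeal A) A]

/-- The universal derivation into the completed module of differentials. -/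
noncomputable def dhat : Derivation k A (AdicCompletion (maximalIdeal A) (KaehlerDifferential k A)) :=
  (AdicCompletion.of (maximalIdeal A) _).compDer (KaehlerDifferential.D k A)

theorem dhat_apply (x : A) :
    dhat k A x = AdicCompletion.of (maximalIdeal A) _ (KaehlerDifferential.D k A x) := rfl

theorem exists_extend (M : Type u) [AddCommGroup M] [Module A M] [Module.Finite A M]
    (f : KaehlerDifferential k A →ₗ[A] M) :
    ∃ Ψ : AdicCompletion (maximalIdeal A) (KaehlerDifferential k A) →ₗ[A] M,
      ∀ x, Ψ (AdicCompletion.of _ _ x) = f x := by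
  have := SGA3a.isAdicComplete_module_of_finite (A := A) M
  refine ⟨(AdicCompletion.ofLinearEquiv (maximalIdeal A) M).symm.toLinearMap ∘ₗ
    (AdicCompletion.map (maximalIdeal A) f).restrictScalars A, fun x => ?_⟩
  rw [LinearMap.comp_apply, LinearMap.restrictScalars_apply, AdicCompletion.map_of]
  exact AdicCompletion.ofLinearEquiv_symm_of _ _

/-- A power series parametrisation by elements generating an ideal of definition is finite. -/
theorem exists_powerSeries_finite [Module.Finite k (ResidueField A)] {m : ℕ} (y : Fin m → A)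
    (hy : ∀ i, y i ∈ maximalIdeal A) (hrad : maximalIdeal A ≤ (Ideal.span (Set.range y)).radical) :
    ∃ w : MvPowerSeries (Fin m) k →ₐ[k] A, IsLocalHom w.toRingHom ∧ w.toRingHom.Finite ∧
      ∀ i, w (MvPowerSeries.X i) = y i := by
  classical
  obtain ⟨φ, hC, hX⟩ := LA18.exists_powerSeries_hom (maximalIdeal A) (algebraMap k A) y hy
  let w : MvPowerSeries (Fin m) k →ₐ[k] A := { φ with commutes' := hC }
  let R := MvPowerSeries (Fin m) k
  let : Algebra R A := φ.toAlgebra
  let I : Ideal R := maximalIdeal R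
  have : IsAdicComplete I R := CAlg6.isAdicComplete_maximalIdeal
  have hIA : I.map (algebraMap R A) = Ideal.span (Set.range y) := by
    rw [show I = _ from CAlg6.maximalIdeal_eq_span_X, Ideal.map_span, ← Set.range_comp]
    exact congrArg (fun g => Ideal.span (Set.range g)) (funext hX : φ ∘ MvPowerSeries.X = y)
  obtain ⟨g, hg⟩ := (Module.Finite.fg_top : (⊤ : Submodule k (ResidueField A)).FG)
  let lift := Function.surjInv (residue_surjective (R := A))
  have hres : ∀ b : A, ∃ x ∈ Submodule.span R ((g.image lift : Finset A) : Set A), b - x ∈ maximalIdeal A := by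
    intro b
    suffices h : ∀ z ∈ Submodule.span k (g : Set (ResidueField A)),
        ∃ x ∈ Submodule.span R ((g.image lift : Finset A) : Set A), residue A x = z by
      obtain ⟨x, hx, hxz⟩ := h (residue A b) (hg ▸ Submodule.mem_top)
      exact ⟨x, hx, (residue_eq_zero_iff _).mp (by rw [map_sub, hxz, sub_self])⟩
    intro z hz
    induction hz using Submodule.span_induction with
    | mem z hz => exact ⟨lift z, Submodule.subset_span (Finset.mem_coe.mpr (Finset.mem_image_of_mem lift hz)),
        Function.surjInv_eq residue_surjective z⟩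
    | zero => exact ⟨0, zero_mem _, map_zero _⟩
    | add z z' _ _ h1 h2 =>
      obtain ⟨x, hx, rfl⟩ := h1; obtain ⟨x', hx', rfl⟩ := h2
      exact ⟨x + x', add_mem hx hx', map_add _ _ _⟩
    | smul c z _ h1 =>
      obtain ⟨x, hx, rfl⟩ := h1
      refine ⟨(MvPowerSeries.C c : R) • x, Submodule.smul_mem _ _ hx, ?_⟩
      show residue A (φ (MvPowerSeries.C c) * x) = c • residue A x
      rw [hC, ← Algebra.smul_def]
      rfl
  have hle : I.map (algebraMap R A) ≤ maximalIdeal A :=
    hIA ▸ Ideal.span_le.2 (Set.range_subset_iff.2 hy)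
  have hfin : Module.Finite R A := Cohen12.finite_of_residue R I hle (g.image lift) hres
    (hIA ▸ Ideal.exists_pow_le_of_le_radical_of_fg hrad (IsNoetherian.noetherian _))
  refine ⟨w, ⟨fun z hz => ?_⟩, hfin, hX⟩
  by_contra hz'
  exact hle (Ideal.mem_map_of_mem _ ((mem_maximalIdeal _).mpr hz')) hz

variable {m : ℕ} [Algebra (MvPowerSeries (Fin m) k) A] [IsScalarTower k (MvPowerSeries (Fin m) k) A]

theorem derivation_mem_pow (ht : ∀ i, algebraMap (MvPowerSeries (Fin m) k) A (MvPowerSeries.X i) ∈ maximalIdeal A)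
    {M : Type u} [AddCommGroup M] [Module A M] [Module k M] [IsScalarTower k A M] (D : Derivation k A M)
    (hD : ∀ i, D (algebraMap (MvPowerSeries (Fin m) k) A (MvPowerSeries.X i)) = 0) (s : ℕ)
    (r : MvPowerSeries (Fin m) k) :
    D (algebraMap (MvPowerSeries (Fin m) k) A r) ∈ (maximalIdeal A ^ s • ⊤ : Submodule A M) := by
  induction s generalizing r with
  | zero => simp
  | succ s ih =>
    have hr : r - MvPowerSeries.C (MvPowerSeries.constantCoeff r) ∈
        maximalIdeal (MvPowerSeries (Fin m) k) := by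
      rw [CAlg6.mem_maximalIdeal_iff]; simp
    rw [CAlg6.maximalIdeal_eq_span_X, Ideal.mem_span_range_iff_exists_fun] at hr
    obtain ⟨c, hc⟩ := hr
    rw [show r = MvPowerSeries.C (MvPowerSeries.constantCoeff r) + ∑ i, c i * MvPowerSeries.X i by
      rw [hc, add_sub_cancel]]
    rw [map_add, map_add, show algebraMap (MvPowerSeries (Fin m) k) A
        (MvPowerSeries.C (MvPowerSeries.constantCoeff r)) = algebraMap k A (MvPowerSeries.constantCoeff r)
        from (IsScalarTower.algebraMap_apply k (MvPowerSeries (Fin m) k) A _).symm,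
      Derivation.map_algebraMap, zero_add, map_sum, map_sum]
    refine sum_mem fun i _ => ?_
    rw [map_mul, Derivation.leibniz, hD, smul_zero, zero_add, pow_succ', Submodule.mul_smul]
    exact Submodule.smul_mem_smul (ht i) (ih (c i))

variable [Module.Finite (MvPowerSeries (Fin m) k) A]

theorem exists_span_dhat (ht : ∀ i, algebraMap (MvPowerSeries (Fin m) k) A (MvPowerSeries.X i) ∈ maximalIdeal A) :
    ∃ (n : ℕ) (β : Fin n → A), Submodule.span A (Set.range (Sum.elim
      (fun i => dhat k A (algebraMap (MvPowerSeries (Fin m) k) A (MvPowerSeries.X i)))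
      (fun l => dhat k A (β l)))) = ⊤ := by
  classical
  let R := MvPowerSeries (Fin m) k
  let 𝔪 := maximalIdeal A
  let Ω := KaehlerDifferential k A
  obtain ⟨n, β, hβ⟩ := Module.Finite.exists_fin (R := R) (M := A)
  let v : Fin m ⊕ Fin n → A := Sum.elim (fun i => algebraMap R A (MvPowerSeries.X i)) β
  refine ⟨n, β, ?_⟩
  -- modulo the maximal ideal
  let N₀ : Submodule A Ω := Submodule.span A (Set.range fun x => KaehlerDifferential.D k A (v x)) ⊔ 𝔪 • ⊤
  have hr : ∀ r : R, KaehlerDifferential.D k A (algebraMap R A r) ∈ N₀ := fun r => by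
    let P := Submodule.span A (Set.range fun x => KaehlerDifferential.D k A (v x))
    have h := derivation_mem_pow k A ht (P.mkQ.compDer (KaehlerDifferential.D k A))
      (fun i => (Submodule.Quotient.mk_eq_zero P).2 (Submodule.subset_span ⟨Sum.inl i, rfl⟩)) 1 r
    rw [pow_one, ← Submodule.range_mkQ P, LinearMap.range_eq_map, ← Submodule.map_smul''] at h
    have h2 : KaehlerDifferential.D k A (algebraMap R A r) ∈ Submodule.comap P.mkQ (Submodule.map P.mkQ (𝔪 • ⊤)) := h
    rwa [Submodule.comap_map_mkQ] at h2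
  have hN₀ : N₀ = ⊤ := by
    rw [eq_top_iff, ← KaehlerDifferential.span_range_derivation, Submodule.span_le]
    rintro _ ⟨x, rfl⟩
    obtain ⟨c, rfl⟩ := (Submodule.mem_span_range_iff_exists_fun R).1 (hβ ▸ Submodule.mem_top : x ∈ _)
    rw [map_sum]
    refine sum_mem fun l _ => ?_
    rw [Algebra.smul_def, Derivation.leibniz]
    exact add_mem (N₀.smul_mem _ (Submodule.mem_sup_left (Submodule.subset_span ⟨Sum.inr l, rfl⟩)))
      (N₀.smul_mem _ (hr (c l)))
  let Ωc := AdicCompletion 𝔪 Ω
  let g : Fin m ⊕ Fin n → Ωc := fun x => dhat k A (v x)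
  have hg : g = Sum.elim (fun i => dhat k A (algebraMap R A (MvPowerSeries.X i))) (fun l => dhat k A (β l)) := by
    funext x; cases x <;> rfl
  rw [← hg, ← Fintype.range_linearCombination A g, LinearMap.range_eq_top]
  have hfg : 𝔪.FG := IsNoetherian.noetherian _
  have : IsAdicComplete 𝔪 Ωc := AdicCompletion.isAdicComplete hfg
  have := SGA3a.isAdicComplete_module_of_finite (A := A) (Fin m ⊕ Fin n → A)
  refine surjective_of_mkQ_comp_surjective (I := 𝔪) fun z => ?_
  obtain ⟨w, rfl⟩ := Submodule.mkQ_surjective _ z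
  obtain ⟨ω, hω⟩ := Submodule.mkQ_surjective _ (AdicCompletion.eval 𝔪 Ω 1 w)
  have h1 : w - AdicCompletion.of 𝔪 Ω ω ∈ (𝔪 • ⊤ : Submodule A Ωc) := by
    have : w - AdicCompletion.of 𝔪 Ω ω ∈ (𝔪 ^ 1 • ⊤ : Submodule A Ωc) := by
      rw [AdicCompletion.pow_smul_top_eq_ker_eval hfg, LinearMap.mem_ker, map_sub, AdicCompletion.eval_of, hω,
        sub_self]
    rwa [pow_one] at this
  obtain ⟨a, ha, b, hb, hab⟩ := Submodule.mem_sup.1 (hN₀ ▸ Submodule.mem_top : ω ∈ N₀)
  obtain ⟨c, hc⟩ := (Submodule.mem_span_range_iff_exists_fun A).1 ha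
  refine ⟨c, ?_⟩
  rw [LinearMap.comp_apply, Submodule.mkQ_apply, Submodule.mkQ_apply, Submodule.Quotient.eq]
  have hb' : AdicCompletion.of 𝔪 Ω b ∈ (𝔪 • ⊤ : Submodule A Ωc) := by
    have := Submodule.mem_map_of_mem (f := AdicCompletion.of 𝔪 Ω) hb
    rw [Submodule.map_smul''] at this
    exact Submodule.smul_mono le_rfl le_top this
  have hsum : Fintype.linearCombination A g c = AdicCompletion.of 𝔪 Ω a := by
    rw [← hc, map_sum, Fintype.linearCombination_apply]
    exact Finset.sum_congr rfl fun x _ => (LinearMap.map_smul (AdicCompletion.of 𝔪 Ω) (c x) _).symm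
  rw [hsum, show AdicCompletion.of 𝔪 Ω a - w = -(w - AdicCompletion.of 𝔪 Ω ω) - AdicCompletion.of 𝔪 Ω b by
    rw [← hab, map_add]; abel]
  exact sub_mem (neg_mem h1) hb'

theorem finite_completedKaehler (ht : ∀ i, algebraMap (MvPowerSeries (Fin m) k) A (MvPowerSeries.X i) ∈ maximalIdeal A) :
    Module.Finite A (AdicCompletion (maximalIdeal A) (KaehlerDifferential k A)) := by
  obtain ⟨n, β, h⟩ := exists_span_dhat k A ht
  exact ⟨h ▸ Submodule.fg_span (Set.finite_range _)⟩

theorem smul_kaehler_eq_zero (a : A)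
    (ha : ∀ w, a • w ∈ Submodule.span A (Set.range fun i =>
      dhat k A (algebraMap (MvPowerSeries (Fin m) k) A (MvPowerSeries.X i))))
    (ω : KaehlerDifferential (MvPowerSeries (Fin m) k) A) : a • ω = 0 := by
  obtain ⟨Ψ, hΨ⟩ := exists_extend k A _
    ((KaehlerDifferential.map k (MvPowerSeries (Fin m) k) A A).restrictScalars A)
  have hD : ∀ x, Ψ (dhat k A x) = KaehlerDifferential.D (MvPowerSeries (Fin m) k) A x := fun x => by
    rw [dhat_apply, hΨ]
    exact KaehlerDifferential.map_D _ _ _ _ x
  have hω : ω ∈ Submodule.span A (Set.range (KaehlerDifferential.D (MvPowerSeries (Fin m) k) A)) := by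
    rw [KaehlerDifferential.span_range_derivation]; trivial
  induction hω using Submodule.span_induction with
  | mem x hx =>
    obtain ⟨x, rfl⟩ := hx
    rw [← hD, ← map_smul]
    obtain ⟨c, hc⟩ := (Submodule.mem_span_range_iff_exists_fun A).1 (ha (dhat k A x))
    rw [← hc, map_sum]
    refine Finset.sum_eq_zero fun i _ => ?_
    rw [map_smul, hD, Derivation.map_algebraMap, smul_zero]
  | zero => simp
  | add x y _ _ hx hy => rw [smul_add, hx, hy, add_zero]
  | smul c x _ hx => rw [smul_comm, hx, smul_zero]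

theorem smul_mem_span_of_kills (ht : ∀ i, algebraMap (MvPowerSeries (Fin m) k) A (MvPowerSeries.X i) ∈ maximalIdeal A)
    (a : A) (ha : ∀ ω : KaehlerDifferential (MvPowerSeries (Fin m) k) A, a • ω = 0)
    (w : AdicCompletion (maximalIdeal A) (KaehlerDifferential k A)) :
    a • w ∈ Submodule.span A (Set.range fun i =>
      dhat k A (algebraMap (MvPowerSeries (Fin m) k) A (MvPowerSeries.X i))) := by
  set P := Submodule.span A (Set.range fun i =>
    dhat k A (algebraMap (MvPowerSeries (Fin m) k) A (MvPowerSeries.X i)))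
  have := finite_completedKaehler k A ht
  have := SGA3a.isAdicComplete_module_of_finite (A := A)
    (AdicCompletion (maximalIdeal A) (KaehlerDifferential k A) ⧸ P)
  let D' := P.mkQ.compDer (dhat k A)
  have hR : ∀ r, D' (algebraMap (MvPowerSeries (Fin m) k) A r) = 0 := fun r =>
    IsHausdorff.haus (inferInstance : IsHausdorff (maximalIdeal A) _) _ fun s => by
      rw [SModEq.zero]
      exact derivation_mem_pow k A ht D'
        (fun i => (Submodule.Quotient.mk_eq_zero P).2 (Submodule.subset_span ⟨i, rfl⟩)) s r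
  let D'' : Derivation (MvPowerSeries (Fin m) k) A (AdicCompletion (maximalIdeal A) (KaehlerDifferential k A) ⧸ P) :=
    Derivation.mk'
      { toFun := D'
        map_add' := map_add D'
        map_smul' := fun r x => by
          rw [Algebra.smul_def, D'.leibniz, hR, smul_zero, add_zero, RingHom.id_apply, algebraMap_smul] }
      D'.leibniz
  have hkill : ∀ x, a • D' x = 0 := fun x => by
    have h := congrArg D''.liftKaehlerDifferential (ha (KaehlerDifferential.D _ A x))
    rwa [map_smul, map_zero, Derivation.liftKaehlerDifferential_comp_D] at h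
  obtain ⟨n, β, hspan⟩ := exists_span_dhat k A ht
  obtain ⟨c, hc⟩ := (Submodule.mem_span_range_iff_exists_fun A).1 (hspan ▸ Submodule.mem_top : w ∈ _)
  rw [← Submodule.Quotient.mk_eq_zero, ← Submodule.mkQ_apply, map_smul, ← hc, map_sum, Finset.smul_sum]
  refine Finset.sum_eq_zero fun x _ => ?_
  rw [map_smul, smul_comm]
  cases x with
  | inl i => exact smul_eq_zero_of_right _ (hkill _)
  | inr l => exact smul_eq_zero_of_right _ (hkill _)

theorem isUnramifiedAt_iff (ht : ∀ i, algebraMap (MvPowerSeries (Fin m) k) A (MvPowerSeries.X i) ∈ maximalIdeal A)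
    (p : Ideal A) [p.IsPrime] :
    Algebra.IsUnramifiedAt (MvPowerSeries (Fin m) k) p ↔
      ∃ a ∉ p, ∀ w : AdicCompletion (maximalIdeal A) (KaehlerDifferential k A), a • w ∈
        Submodule.span A (Set.range fun i =>
          dhat k A (algebraMap (MvPowerSeries (Fin m) k) A (MvPowerSeries.X i))) := by
  have h1 : Algebra.IsUnramifiedAt (MvPowerSeries (Fin m) k) p ↔
      (⟨p, ‹_›⟩ : PrimeSpectrum A) ∉ Module.support A (KaehlerDifferential (MvPowerSeries (Fin m) k) A) := by
    rw [← Set.mem_compl_iff, ← Algebra.unramifiedLocus_eq_compl_support]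
    rfl
  rw [h1, Module.support_eq_zeroLocus, PrimeSpectrum.mem_zeroLocus, Set.not_subset]
  constructor
  · rintro ⟨a, ha, hap⟩
    exact ⟨a, hap, smul_mem_span_of_kills k A ht a (Module.mem_annihilator.1 ha)⟩
  · rintro ⟨a, hap, ha⟩
    exact ⟨a, Module.mem_annihilator.2 (smul_kaehler_eq_zero k A a ha), hap⟩

end Groth.Agent.OmegaHat14
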