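import Mathlib

/-!
The fraction field of a finite extension is finite.
-/

set_option autoImplicit false

namespace Groth.Agent.OmegaHat14

universe u

theorem finite_fractionRing (S B : Type u) [CommRing S] [IsDomain S] [CommRing B] [IsDomain B] [Algebra S B]
    [Module.Finite S B] [Algebra (FractionRing S) (FractionRing B)]
    [IsScalarTower S (FractionRing S) (FractionRing B)] :
    Module.Finite (FractionRing S) (FractionRing B) := by
  let K := FractionRing S
  let L := FractionRing B
  obtain ⟨n, β, hβ⟩ := Module.Finite.exists_fin (R := S) (M := B)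
  let W : Submodule K L := Submodule.span K (Set.range fun l => algebraMap B L (β l))
  have hW : ∀ y : B, algebraMap B L y ∈ W := fun y => by
    obtain ⟨c, rfl⟩ := (Submodule.mem_span_range_iff_exists_fun S).1 (hβ ▸ Submodule.mem_top : y ∈ _)
    rw [map_sum]
    refine sum_mem fun l _ => ?_
    rw [Algebra.smul_def, map_mul, ← IsScalarTower.algebraMap_apply S B L,
      IsScalarTower.algebraMap_apply S K L, ← Algebra.smul_def]
    exact W.smul_mem _ (Submodule.subset_span ⟨l, rfl⟩)
  let W' : Subalgebra K L := Algebra.adjoin K (Set.range (algebraMap B L))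
  have hle : W'.toSubmodule ≤ W := by
    rw [Algebra.adjoin_eq_span, Submodule.span_le]
    intro y hy
    obtain ⟨z, rfl⟩ : y ∈ MonoidHom.mrange (algebraMap B L : B →* L) :=
      Submonoid.closure_le.2 (fun y hy => hy) hy
    exact hW z
  have : FiniteDimensional K W'.toSubmodule :=
    have : FiniteDimensional K W := Module.Finite.span_of_finite K (Set.finite_range _)
    Submodule.finiteDimensional_of_le hle
  have htop : W' = ⊤ := eq_top_iff.2 fun x _ => by
    obtain ⟨a, c, hc, rfl⟩ := IsFractionRing.div_surjective (A := B) x
    rw [div_eq_mul_inv]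
    refine mul_mem (Algebra.subset_adjoin ⟨a, rfl⟩) ?_
    have : FiniteDimensional K W' := ‹FiniteDimensional K W'.toSubmodule›
    let c' : W' := ⟨algebraMap B L c, Algebra.subset_adjoin ⟨c, rfl⟩⟩
    exact W'.inv_mem_of_algebraic (x := c')
      ((isAlgebraic_algHom_iff W'.val Subtype.val_injective).2
        (Algebra.IsAlgebraic.isAlgebraic c'))
  refine Module.finite_def.2 ?_
  rw [show (⊤ : Submodule K L) = W'.toSubmodule by rw [htop, Algebra.top_toSubmodule]]
  exact Module.Finite.iff_fg.1 ‹FiniteDimensional K W'.toSubmodule›

end Groth.Agent.OmegaHat14
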