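import Groth.Agent.OmegaHat14.Constants
import Groth.Agent.OmegaHat14.Frac

/-!
Independent derivations of a finite extension of `Frac k[[T]]` in characteristic `p`.
-/

set_option autoImplicit false

namespace Groth.Agent.OmegaHat14

universe u

theorem adjoin_finrank_le_pow {F L : Type u} [Field F] [Field L] [Algebra F L] [FiniteDimensional F L]
    (p : ℕ) [Fact p.Prime] {κ : Type u} [Fintype κ] (x : κ → L)
    (hx : ∀ j, x j ^ p ∈ Set.range (algebraMap F L)) :
    Module.finrank F (IntermediateField.adjoin F (Set.range x)) ≤ p ^ Fintype.card κ := by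
  classical
  have hp : 0 < p := (Fact.out : p.Prime).pos
  let V := Submodule.span F (Set.range fun e : κ → Fin p => ∏ j, x j ^ (e j : ℕ))
  have hle : (IntermediateField.adjoin F (Set.range x)).toSubalgebra.toSubmodule ≤ V := by
    rw [IntermediateField.adjoin_toSubalgebra_of_isAlgebraic fun y _ => Algebra.IsAlgebraic.isAlgebraic y,
      Algebra.adjoin_range_eq_range_aeval]
    rintro _ ⟨P, rfl⟩
    change MvPolynomial.aeval x P ∈ V
    induction P using MvPolynomial.induction_on' with
    | add a b ha hb => rw [map_add]; exact add_mem ha hb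
    | monomial n c =>
      rw [MvPolynomial.aeval_monomial, ← Algebra.smul_def, Finsupp.prod_fintype _ _ fun _ => pow_zero _]
      refine V.smul_mem c ?_
      choose a ha using hx
      have key : ∏ j, x j ^ n j = (∏ j, a j ^ (n j / p)) • ∏ j, x j ^ ((⟨n j % p, Nat.mod_lt _ hp⟩ : Fin p) : ℕ) := by
        rw [Algebra.smul_def, map_prod, ← Finset.prod_mul_distrib]
        refine Finset.prod_congr rfl fun j _ => ?_
        rw [map_pow, ha, ← pow_mul, ← pow_add, Nat.div_add_mod]
      rw [key]
      exact V.smul_mem _ (Submodule.subset_span ⟨fun j => ⟨n j % p, Nat.mod_lt _ hp⟩, rfl⟩)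
  calc Module.finrank F (IntermediateField.adjoin F (Set.range x))
      = Module.finrank F (IntermediateField.adjoin F (Set.range x)).toSubalgebra.toSubmodule := rfl
    _ ≤ Module.finrank F V := Submodule.finrank_mono hle
    _ ≤ Fintype.card (κ → Fin p) := finrank_range_le_card _
    _ = p ^ Fintype.card κ := by simp

/-- In an extension of exponent one, differentials of generators bound the degree. -/
theorem finrank_le_pow_of_span {F L : Type u} [Field F] [Field L] [Algebra F L] [FiniteDimensional F L]
    (p : ℕ) [Fact p.Prime] [CharP L p] (hexp : ∀ y : L, y ^ p ∈ Set.range (algebraMap F L))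
    {κ : Type u} [Fintype κ] (x : κ → L)
    (hspan : Submodule.span L (Set.range fun j => KaehlerDifferential.D F L (x j)) = ⊤) :
    Module.finrank F L ≤ p ^ Fintype.card κ := by
  let M := IntermediateField.adjoin F (Set.range x)
  have hsub : Subsingleton (Ω[L⁄M]) := by
    refine subsingleton_of_forall_eq 0 fun w => ?_
    obtain ⟨v, rfl⟩ := KaehlerDifferential.map_surjective F M L w
    have hv : v ∈ Submodule.span L (Set.range fun j => KaehlerDifferential.D F L (x j)) :=
      hspan ▸ Submodule.mem_top
    induction hv using Submodule.span_induction with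
    | mem v hv =>
      obtain ⟨j, rfl⟩ := hv
      rw [KaehlerDifferential.map_D]
      exact Derivation.map_algebraMap (KaehlerDifferential.D M L)
        ⟨x j, IntermediateField.subset_adjoin F _ ⟨j, rfl⟩⟩
    | zero => simp
    | add a b _ _ ha hb => simp [ha, hb]
    | smul c a _ ha => simp [ha]
  have : Algebra.FormallyUnramified M L := ⟨hsub⟩
  have : Algebra.IsSeparable M L := Algebra.FormallyUnramified.isSeparable M L
  have : CharP M p := (algebraMap M L).charP (algebraMap M L).injective p
  have : ExpChar M p := ExpChar.prime (Fact.out : p.Prime)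
  have : IsPurelyInseparable M L := (isPurelyInseparable_iff_pow_mem M p).2 fun y => by
    obtain ⟨c, hc⟩ := hexp y
    exact ⟨1, algebraMap F M c, by rw [pow_one, ← hc]; rfl⟩
  have hsurj : Function.Surjective (algebraMap M L) :=
    IsPurelyInseparable.surjective_algebraMap_of_isSeparable M L
  have htop : M = ⊤ := eq_top_iff.2 fun y _ => by
    obtain ⟨z, rfl⟩ := hsurj y
    exact z.2
  have hle : Module.finrank F M ≤ p ^ Fintype.card κ :=
    adjoin_finrank_le_pow p x fun j => hexp _
  rwa [htop, IntermediateField.finrank_top'] at hle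

/-- Derivations with a dual system in a finite extension with a controlled exponent one part. -/
theorem exists_derivations_of_finrank {F K L : Type u} [Field F] [Field K] [Field L] [Algebra F K]
    [Algebra K L] [Algebra F L] [IsScalarTower F K L] [FiniteDimensional F K] [FiniteDimensional K L]
    (p : ℕ) [Fact p.Prime] [CharP L p] {d : ℕ} (hK : Module.finrank F K = p ^ d)
    (hpow : ∀ c : K, c ^ p ∈ Set.range (algebraMap F K))
    (B : Type u) [CommRing B] [IsDomain B] [Algebra B L] [IsFractionRing B L] :
    ∃ (δ : Fin d → Derivation F L L) (b : Fin d → B),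
      ∀ i j, δ i (algebraMap B L (b j)) = if i = j then 1 else 0 := by
  classical
  have : Module.Finite F L := Module.Finite.trans K L
  let L₀ : IntermediateField F L := IntermediateField.adjoin F (Set.range fun y : L => y ^ p)
  let m := Module.finrank K L
  let bL := Module.finBasis K L
  have hL₀ : Module.finrank F L₀ ≤ m := by
    have hle : L₀.toSubalgebra.toSubmodule ≤ Submodule.span F (Set.range fun l => bL l ^ p) := by
      rw [IntermediateField.adjoin_toSubalgebra_of_isAlgebraic fun y _ => Algebra.IsAlgebraic.isAlgebraic y,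
        Algebra.adjoin_eq_span, Submodule.span_le]
      intro y hy
      obtain ⟨z, rfl⟩ : y ∈ MonoidHom.mrange (powMonoidHom p : L →* L) :=
        Submonoid.closure_le.2 (fun y hy => hy) hy
      rw [SetLike.mem_coe, powMonoidHom_apply, ← bL.sum_repr z, sum_pow_char]
      refine sum_mem fun l _ => ?_
      obtain ⟨f, hf⟩ := hpow (bL.repr z l)
      rw [Algebra.smul_def, mul_pow, ← map_pow, ← hf, ← IsScalarTower.algebraMap_apply F K L,
        ← Algebra.smul_def]
      exact Submodule.smul_mem _ _ (Submodule.subset_span ⟨l, rfl⟩)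
    calc Module.finrank F L₀ = Module.finrank F L₀.toSubalgebra.toSubmodule := rfl
      _ ≤ Module.finrank F (Submodule.span F (Set.range fun l => bL l ^ p)) := Submodule.finrank_mono hle
      _ ≤ m := (finrank_range_le_card _).trans_eq (Fintype.card_fin m)
  have hdeg : p ^ d ≤ Module.finrank L₀ L := by
    have h1 : Module.finrank F L₀ * Module.finrank L₀ L = p ^ d * m := by
      rw [Module.finrank_mul_finrank, ← hK, Module.finrank_mul_finrank]
    have hpos : 0 < m := Module.finrank_pos
    have h2 := Nat.mul_le_mul_right (Module.finrank L₀ L) hL₀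
    rw [h1, mul_comm m] at h2
    exact Nat.le_of_mul_le_mul_right h2 hpos
  have : FiniteDimensional L₀ L := Module.Finite.of_restrictScalars_finite F L₀ L
  have hexp : ∀ y : L, y ^ p ∈ Set.range (algebraMap L₀ L) := fun y =>
    ⟨⟨y ^ p, IntermediateField.subset_adjoin _ _ ⟨y, rfl⟩⟩, rfl⟩
  let Db : B → Ω[L⁄L₀] := fun y => KaehlerDifferential.D L₀ L (algebraMap B L y)
  have hDb : Submodule.span L (Set.range Db) = ⊤ := by
    rw [eq_top_iff, ← KaehlerDifferential.span_range_derivation L₀ L, Submodule.span_le]
    rintro _ ⟨x, rfl⟩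
    obtain ⟨a, c, hc, rfl⟩ := IsFractionRing.div_surjective (A := B) x
    rw [Derivation.leibniz_div]
    exact Submodule.smul_mem _ _ (sub_mem (Submodule.smul_mem _ _ (Submodule.subset_span ⟨a, rfl⟩))
      (Submodule.smul_mem _ _ (Submodule.subset_span ⟨c, rfl⟩)))
  obtain ⟨κ, aκ, haκ, hκspan, hκli⟩ := exists_linearIndependent' L Db
  rw [hDb] at hκspan
  let bΩ := Module.Basis.mk hκli (le_of_eq hκspan.symm)
  have : Fintype κ := FiniteDimensional.fintypeBasisIndex bΩ
  have hcard : d ≤ Fintype.card κ := by
    refine (Nat.pow_le_pow_iff_right (Fact.out : p.Prime).one_lt).1 (hdeg.trans ?_)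
    exact finrank_le_pow_of_span p hexp (fun j => algebraMap B L (aκ j)) hκspan
  let σ : Fin d → κ := fun i => (Fintype.equivFin κ).symm (Fin.castLE hcard i)
  have hσ : Function.Injective σ := (Equiv.injective _).comp (Fin.castLE_injective hcard)
  refine ⟨fun i => ((bΩ.coord (σ i)).compDer (KaehlerDifferential.D L₀ L)).restrictScalars F,
    fun j => aκ (σ j), fun i j => ?_⟩
  change bΩ.coord (σ i) (KaehlerDifferential.D L₀ L (algebraMap B L (aκ (σ j)))) = _
  rw [show KaehlerDifferential.D L₀ L (algebraMap B L (aκ (σ j))) = bΩ (σ j) from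
    (Module.Basis.mk_apply hκli _ (σ j)).symm, Module.Basis.coord_apply, Module.Basis.repr_self,
    Finsupp.single_apply]
  simp [hσ.eq_iff, eq_comm]

open MvPowerSeries in
theorem exists_dual_derivations_charP (k : Type u) [Field k] (p : ℕ) [Fact p.Prime] [CharP k p] (d : ℕ)
    (B : Type u) [CommRing B] [IsDomain B] [Algebra k B] [Algebra (MvPowerSeries (Fin d) k) B]
    [IsScalarTower k (MvPowerSeries (Fin d) k) B] [Module.Finite (MvPowerSeries (Fin d) k) B]
    (hinj : Function.Injective (algebraMap (MvPowerSeries (Fin d) k) B)) :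
    ∃ (δ : Fin d → Derivation k (FractionRing B) (FractionRing B)) (b : Fin d → B),
      (∀ i j, δ i (algebraMap B (FractionRing B) (b j)) = if i = j then 1 else 0) ∧
      ∀ i, ∃ F : Finset (FractionRing B), ∀ s : MvPowerSeries (Fin d) k,
        δ i (algebraMap (MvPowerSeries (Fin d) k) (FractionRing B) s) ∈
          Submodule.span (MvPowerSeries (Fin d) k) (F : Set (FractionRing B)) := by
  classical
  let S := MvPowerSeries (Fin d) k
  let K := FractionRing S
  let L := FractionRing B
  have : IsDomain S := hinj.isDomain _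
  have : FaithfulSMul S B := (faithfulSMul_iff_algebraMap_injective S B).2 hinj
  have : FaithfulSMul S L := (faithfulSMul_iff_algebraMap_injective S L).2 <| by
    rw [IsScalarTower.algebraMap_eq S B L]
    exact (IsFractionRing.injective B L).comp hinj
  letI : Algebra K L := FractionRing.liftAlgebra S L
  have : IsScalarTower S K L := FractionRing.isScalarTower_liftAlgebra S L
  have : CharP S p := charP_of_injective_algebraMap (FaithfulSMul.algebraMap_injective k S) p
  have : CharP L p := charP_of_injective_algebraMap (algebraMap k L).injective p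
  have : CharP K p := charP_of_injective_algebraMap (IsFractionRing.injective S K) p
  have : Module.Finite K L := finite_fractionRing S B
  -- the field of constants
  let C₀ : Set K := algebraMap S K '' (cst k d : Set S)
  let K' : Subfield K := Subfield.closure C₀
  have hmemK : ∀ g : S, g ∈ cst k d → algebraMap S K g ∈ K' :=
    fun g hg => Subfield.subset_closure ⟨g, hg, rfl⟩
  let T : (Fin d → Fin p) → K := fun e => algebraMap S K (monomial (expo p e) 1)
  have hspanS : ∀ s : S, algebraMap S K s ∈ Submodule.span K' (Set.range T) := fun s => by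
    obtain ⟨g, hg, hs⟩ := exists_decomp p s
    rw [hs, map_sum]
    refine sum_mem fun e _ => ?_
    rw [map_mul, mul_comm]
    exact Submodule.smul_mem _ (⟨_, hmemK _ (hg e)⟩ : K') (Submodule.subset_span ⟨e, rfl⟩)
  have hp1 : 1 ≤ p := (Fact.out : p.Prime).one_lt.le
  have hspanK : Submodule.span K' (Set.range T) = ⊤ := eq_top_iff.2 fun x _ => by
    obtain ⟨a, c, hc, rfl⟩ := IsFractionRing.div_surjective (A := S) x
    have hc0 : algebraMap S K c ≠ 0 := IsFractionRing.to_map_ne_zero_of_mem_nonZeroDivisors hc
    have hx : algebraMap S K a / algebraMap S K c =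
        (⟨(algebraMap S K (c ^ p))⁻¹, K'.inv_mem (hmemK _ (pow_mem_cst p c))⟩ : K') •
          algebraMap S K (a * c ^ (p - 1)) := by
      rw [Subfield.smul_def, smul_eq_mul]
      change _ = (algebraMap S K (c ^ p))⁻¹ * _
      obtain ⟨q, hq⟩ : ∃ q, p = q + 1 := ⟨p - 1, by omega⟩
      simp only [map_mul, map_pow, hq, Nat.add_sub_cancel, pow_succ]
      rw [div_eq_mul_inv, mul_inv, mul_comm (algebraMap S K a) (algebraMap S K c ^ q), mul_mul_mul_comm, inv_mul_cancel₀ (pow_ne_zero q hc0), one_mul, mul_comm]
    rw [hx]
    exact Submodule.smul_mem _ _ (hspanS _)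
  have hfrac : ∀ x ∈ K', ∃ a ∈ cst k d, ∃ c ∈ cst k d, c ≠ 0 ∧ x * algebraMap S K c = algebraMap S K a := by
    intro x hx
    obtain ⟨y, hy, z, hz, rfl⟩ := Subfield.mem_closure_iff.1 hx
    have hcl : Subring.closure C₀ ≤ (cst k d).toSubring.map (algebraMap S K) :=
      Subring.closure_le.2 (by rintro _ ⟨g, hg, rfl⟩; exact ⟨g, hg, rfl⟩)
    obtain ⟨a, ha, rfl⟩ := hcl hy
    obtain ⟨c, hc, rfl⟩ := hcl hz
    by_cases hc0 : c = 0
    · exact ⟨0, zero_mem _, 1, one_mem _, one_ne_zero, by simp [hc0]⟩
    · exact ⟨a, ha, c, hc, hc0, div_mul_cancel₀ _ fun h0 =>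
        hc0 (IsFractionRing.injective S K (by rw [h0, map_zero]))⟩
  have hliK : LinearIndependent K' T := by
    rw [Fintype.linearIndependent_iff]
    intro c hc e₀
    choose a ha den hden hne heq using fun e => hfrac (c e : K) (c e).2
    let g : (Fin d → Fin p) → S := fun e => a e * ∏ e' ∈ Finset.univ.erase e, den e'
    have hg : ∀ e, g e ∈ cst k d := fun e =>
      mul_mem (ha e) (prod_mem fun e' _ => hden e')
    have hge : ∀ e, algebraMap S K (g e) = (c e : K) * algebraMap S K (∏ e', den e') := fun e => by
      rw [map_mul, ← heq, mul_assoc, ← map_mul, Finset.mul_prod_erase _ _ (Finset.mem_univ e)]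
    have hzero : ∑ e, monomial (expo p e) (1 : k) * g e = 0 := by
      refine IsFractionRing.injective S K ?_
      rw [map_sum, map_zero]
      calc ∑ e, algebraMap S K (monomial (expo p e) 1 * g e)
          = (∑ e, (c e) • T e) * algebraMap S K (∏ e', den e') := by
            rw [Finset.sum_mul]
            refine Finset.sum_congr rfl fun e _ => ?_
            rw [map_mul, hge, Subfield.smul_def, smul_eq_mul]
            ring
        _ = 0 := by rw [hc, zero_mul]
    have h0 := eq_zero_of_sum_eq_zero p g hg hzero e₀
    have h1 : (c e₀ : K) * algebraMap S K (∏ e', den e') = 0 := by rw [← hge, h0, map_zero]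
    refine Subtype.ext ((mul_eq_zero.1 h1).resolve_right fun h2 => ?_)
    exact Finset.prod_ne_zero_iff.2 (fun e' _ => hne e') (IsFractionRing.injective S K (by rw [h2, map_zero]))
  let bK := Module.Basis.mk hliK (le_of_eq hspanK.symm)
  have : Module.Finite K' K := Module.Finite.of_basis bK
  have hK : Module.finrank K' K = p ^ d := by
    rw [Module.finrank_eq_card_basis bK]; simp
  have hpow : ∀ c : K, c ^ p ∈ Set.range (algebraMap K' K) := fun x => by
    obtain ⟨a, c, hc, rfl⟩ := IsFractionRing.div_surjective (A := S) x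
    refine ⟨⟨_, K'.div_mem (hmemK _ (pow_mem_cst p a)) (hmemK _ (pow_mem_cst p c))⟩, ?_⟩
    change algebraMap S K (a ^ p) / algebraMap S K (c ^ p) = _
    rw [map_pow, map_pow, div_pow]
  obtain ⟨δ₀, b, hb⟩ := exists_derivations_of_finrank p (K := K) (F := K') (L := L) hK hpow B
  have hkill : ∀ i, ∀ g ∈ cst k d, δ₀ i (algebraMap S L g) = 0 := fun i g hg => by
    rw [IsScalarTower.algebraMap_apply S K L]
    exact (δ₀ i).map_algebraMap (⟨_, hmemK g hg⟩ : K')
  let δ : Fin d → Derivation k L L := fun i => Derivation.mk'
    { toFun := δ₀ i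
      map_add' := map_add _
      map_smul' := fun c x => by
        rw [Algebra.smul_def, (δ₀ i).leibniz, IsScalarTower.algebraMap_apply k S L,
          hkill _ _ ((cst k d).algebraMap_mem c), smul_zero, add_zero,
          RingHom.id_apply, smul_eq_mul, ← IsScalarTower.algebraMap_apply k S L, ← Algebra.smul_def] }
    (δ₀ i).leibniz
  refine ⟨δ, b, hb, fun i => ?_⟩
  refine ⟨Finset.univ.image fun e => δ₀ i (algebraMap S L (monomial (expo p e) 1)), fun s => ?_⟩
  obtain ⟨g, hg, hs⟩ := exists_decomp p s
  change δ₀ i (algebraMap S L s) ∈ _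
  rw [hs, map_sum, map_sum]
  refine sum_mem fun e _ => ?_
  rw [map_mul, (δ₀ i).leibniz, hkill _ _ (hg e), smul_zero, zero_add, smul_eq_mul,
    ← Algebra.smul_def]
  exact Submodule.smul_mem _ _ (Submodule.subset_span (by simp))

end Groth.Agent.OmegaHat14
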