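import Mathlib
import Groth.Agent.OmegaHat14.CharP
import Groth.Agent.Cohen12.Finite
import Groth.Agent.CAlg6.CompleteSurj
import Groth.Agent.SGA3a.FiniteComplete

/-!
Independent derivations of a complete local domain, and the induced map on the completed
module of differentials.
-/

set_option autoImplicit false

open IsLocalRing

namespace Groth.Agent.OmegaHat14

universe u

open MvPowerSeries in
theorem exists_dual_derivations_charZero (k : Type u) [Field k] [CharZero k] (d : ℕ)
    (B : Type u) [CommRing B] [IsDomain B] [Algebra k B] [Algebra (MvPowerSeries (Fin d) k) B]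
    [IsScalarTower k (MvPowerSeries (Fin d) k) B] [Module.Finite (MvPowerSeries (Fin d) k) B]
    (hinj : Function.Injective (algebraMap (MvPowerSeries (Fin d) k) B)) :
    ∃ (δ : Fin d → Derivation k (FractionRing B) (FractionRing B)) (b : Fin d → B),
      (∀ i j, δ i (algebraMap B (FractionRing B) (b j)) = if i = j then 1 else 0) ∧
      ∀ i, ∃ F : Finset (FractionRing B), ∀ s : MvPowerSeries (Fin d) k,
        δ i (algebraMap (MvPowerSeries (Fin d) k) (FractionRing B) s) ∈
          Submodule.span (MvPowerSeries (Fin d) k) (F : Set (FractionRing B)) := by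
  classical
  let S := MvPowerSeries (Fin d) k
  let K := FractionRing S
  let L := FractionRing B
  have : IsDomain S := hinj.isDomain _
  have : FaithfulSMul S B := (faithfulSMul_iff_algebraMap_injective S B).2 hinj
  have : FaithfulSMul S L := (faithfulSMul_iff_algebraMap_injective S L).2 <| by
    rw [IsScalarTower.algebraMap_eq S B L]
    exact (IsFractionRing.injective B L).comp hinj
  letI : Algebra K L := FractionRing.liftAlgebra S L
  have : IsScalarTower S K L := FractionRing.isScalarTower_liftAlgebra S L
  have : Module.Finite K L := finite_fractionRing S B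
  have : CharZero K := charZero_of_injective_algebraMap
    ((IsFractionRing.injective S K).comp (FaithfulSMul.algebraMap_injective k S) : Function.Injective
      ((algebraMap S K).comp (algebraMap k S)))
  have : Algebra.FormallyEtale S K := Algebra.FormallyEtale.of_isLocalization (nonZeroDivisors S)
  have : Algebra.FormallyEtale K L := Algebra.FormallyEtale.of_isSeparable K L
  have : Algebra.FormallyEtale S L := Algebra.FormallyEtale.comp S K L
  let e := KaehlerDifferential.tensorKaehlerEquivOfFormallyEtale k S L
  let δ : Fin d → Derivation k L L := fun i =>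
    ((LinearMap.liftBaseChange L ((Algebra.linearMap S L) ∘ₗ (pderiv k i).liftKaehlerDifferential)) ∘ₗ
      e.symm.toLinearMap).compDer (KaehlerDifferential.D k L)
  have hδ : ∀ i s, δ i (algebraMap S L s) = algebraMap S L (pderiv k i s) := fun i s => by
    change LinearMap.liftBaseChange L _ (e.symm (KaehlerDifferential.D k L (algebraMap S L s))) = _
    rw [KaehlerDifferential.tensorKaehlerEquivOfFormallyEtale_symm_D_algebraMap,
      LinearMap.liftBaseChange_tmul, one_smul, LinearMap.comp_apply,
      Derivation.liftKaehlerDifferential_comp_D, Algebra.linearMap_apply]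
  refine ⟨δ, fun j => algebraMap S B (X j), fun i j => ?_, fun i => ⟨{1}, fun s => ?_⟩⟩
  · rw [← IsScalarTower.algebraMap_apply S B L, hδ]
    rcases eq_or_ne i j with rfl | h
    · simp
    · rw [pderiv_X_of_ne h.symm, map_zero, if_neg h]
  · rw [hδ, Algebra.algebraMap_eq_smul_one]
    exact Submodule.smul_mem _ _ (Submodule.subset_span (by simp))

/-- On a complete local domain of dimension `d` there are `d` independent derivations. -/
theorem exists_derivations (k B : Type u) [Field k] [CommRing B] [IsDomain B] [IsLocalRing B]
    [IsNoetherianRing B] [Algebra k B] [IsAdicComplete (maximalIdeal B) B]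
    [Module.Finite k (ResidueField B)] :
    ∃ d : ℕ, ringKrullDim B = d ∧ ∃ (c : B) (_ : c ≠ 0) (D : Fin d → Derivation k B B) (b : Fin d → B),
      ∀ i j, D i (b j) = if i = j then c else 0 := by
  classical
  obtain ⟨d, w, hdim, hw, -, hfin⟩ := Cohen12.exists_finite_powerSeries (k₀ := k) (A := B)
  let S := MvPowerSeries (Fin d) k
  letI : Algebra S B := w.toRingHom.toAlgebra
  have : IsScalarTower k S B := IsScalarTower.of_algebraMap_eq fun x => (w.commutes x).symm
  have : Module.Finite S B := hfin
  have : FaithfulSMul S B := (faithfulSMul_iff_algebraMap_injective S B).2 hw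
  let L := FractionRing B
  have key : ∃ (δ : Fin d → Derivation k L L) (b : Fin d → B),
      (∀ i j, δ i (algebraMap B L (b j)) = if i = j then 1 else 0) ∧
      ∀ i, ∃ F : Finset L, ∀ s : S, δ i (algebraMap S L s) ∈ Submodule.span S (F : Set L) := by
    obtain ⟨p, hp⟩ := CharP.exists k
    rcases CharP.char_is_prime_or_zero k p with h | h
    · have : Fact p.Prime := ⟨h⟩
      exact exists_dual_derivations_charP k p d B hw
    · subst h
      have : CharZero k := CharP.charP_to_charZero k
      exact exists_dual_derivations_charZero k d B hw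
  obtain ⟨δ, b, hb, hF⟩ := key
  choose F hF using hF
  obtain ⟨n, β, hβ⟩ := Module.Finite.exists_fin (R := S) (M := B)
  let all : Finset L := (Finset.univ.biUnion F) ∪
    (Finset.univ.image fun q : Fin d × Fin n => δ q.1 (algebraMap B L (β q.2)))
  obtain ⟨⟨c, hc⟩, hcint⟩ := IsLocalization.exist_integer_multiples_of_finset (nonZeroDivisors B) all
  let R : Submodule S L := LinearMap.range (IsScalarTower.toAlgHom S B L).toLinearMap
  have hR : ∀ i (y : B), algebraMap B L c * δ i (algebraMap B L y) ∈ R := by
    intro i y
    have hall : ∀ z ∈ all, algebraMap B L c * z ∈ R := fun z hz => by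
      obtain ⟨r, hr⟩ := hcint z hz
      exact ⟨r, hr.trans (Algebra.smul_def _ _)⟩
    have hspanF : ∀ z ∈ Submodule.span S ((F i : Finset L) : Set L), algebraMap B L c * z ∈ R := by
      intro z hz
      induction hz using Submodule.span_induction with
      | mem z hz => exact hall z (Finset.mem_union_left _ (Finset.mem_biUnion.2 ⟨i, Finset.mem_univ _, hz⟩))
      | zero => simp
      | add z z' _ _ h h' => rw [mul_add]; exact add_mem h h'
      | smul r z _ h => rw [mul_smul_comm]; exact R.smul_mem r h
    obtain ⟨r, rfl⟩ := (Submodule.mem_span_range_iff_exists_fun S).1 (hβ ▸ Submodule.mem_top : y ∈ _)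
    rw [map_sum, map_sum, Finset.mul_sum]
    refine sum_mem fun l _ => ?_
    rw [Algebra.smul_def, map_mul, ← IsScalarTower.algebraMap_apply S B L, Derivation.leibniz,
      mul_add]
    refine add_mem ?_ ?_
    · rw [smul_eq_mul, mul_left_comm, ← Algebra.smul_def]
      exact R.smul_mem _ (hall _ (Finset.mem_union_right _ (Finset.mem_image.2 ⟨(i, l), Finset.mem_univ _, rfl⟩)))
    · obtain ⟨r', hr'⟩ := hspanF _ (hF i (r l))
      exact ⟨β l * r', by
        change algebraMap B L (β l * r') = _
        rw [map_mul, show algebraMap B L r' = _ from hr', smul_eq_mul]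
        ring⟩
  choose Df hDf using hR
  replace hDf : ∀ i y, algebraMap B L (Df i y) = algebraMap B L c * δ i (algebraMap B L y) := hDf
  have hinjL := IsFractionRing.injective B L
  refine ⟨d, hdim, c, nonZeroDivisors.ne_zero hc, fun i => Derivation.mk'
    { toFun := Df i
      map_add' := fun x y => hinjL (by simp only [map_add, hDf, mul_add])
      map_smul' := fun r x => hinjL (by
        rw [RingHom.id_apply, hDf, Algebra.smul_def r (Df i x), map_mul, hDf, Algebra.smul_def r x,
          map_mul, ← IsScalarTower.algebraMap_apply, Derivation.leibniz, Derivation.map_algebraMap,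
          smul_zero, add_zero, smul_eq_mul, mul_left_comm]) }
    (fun x y => hinjL (by
      simp only [LinearMap.coe_mk, AddHom.coe_mk, smul_eq_mul, map_add, map_mul, hDf,
        Derivation.leibniz]
      ring)), b, fun i j => hinjL ?_⟩
  change algebraMap B L (Df i (b j)) = _
  rw [hDf, hb]
  split_ifs <;> simp

/-- The completed differentials of a complete local algebra map to a free module of rank
`dim (A ⧸ q)` over `A ⧸ q` with image of full rank. -/
theorem exists_map_to_pi (k A : Type u) [Field k] [CommRing A] [IsLocalRing A] [IsNoetherianRing A]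
    [Algebra k A] [IsAdicComplete (maximalIdeal A) A] [Module.Finite k (ResidueField A)]
    (q : Ideal A) [q.IsPrime] :
    ∃ d : ℕ, ringKrullDim (A ⧸ q) = d ∧ ∃ (c : A) (_ : c ∉ q)
      (Φ : AdicCompletion (maximalIdeal A) (KaehlerDifferential k A) →ₗ[A] (Fin d → A ⧸ q))
      (w : Fin d → AdicCompletion (maximalIdeal A) (KaehlerDifferential k A)),
      ∀ i j, Φ (w j) i = if i = j then Ideal.Quotient.mk q c else 0 := by
  classical
  let B := A ⧸ q
  have : IsLocalRing B := .of_surjective' _ Ideal.Quotient.mk_surjective
  have hmax : (maximalIdeal A).map (algebraMap A B) = maximalIdeal B := by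
    rw [Ideal.Quotient.algebraMap_eq]
    rcases Ideal.map_eq_top_or_isMaximal_of_surjective (Ideal.Quotient.mk q) Ideal.Quotient.mk_surjective
      (maximalIdeal.isMaximal A) with h | h
    · exfalso
      have h2 := congrArg (Ideal.comap (Ideal.Quotient.mk q)) h
      rw [Ideal.comap_map_of_surjective _ Ideal.Quotient.mk_surjective, ← RingHom.ker_eq_comap_bot,
        Ideal.mk_ker, sup_eq_left.2 (le_maximalIdeal ‹q.IsPrime›.ne_top), Ideal.comap_top] at h2
      replace h := h2
      exact (maximalIdeal.isMaximal A).ne_top h
    · exact IsLocalRing.eq_maximalIdeal h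
  have : IsAdicComplete (maximalIdeal B) B := hmax ▸ SGA3a.isAdicComplete_map_of_finite B
  have : IsLocalHom (algebraMap A B) := .of_surjective _ Ideal.Quotient.mk_surjective
  have : Module.Finite k (ResidueField B) := by
    refine Module.Finite.of_surjective
      ({ ResidueField.map (algebraMap A B) with
          commutes' := fun r => ?_ } : ResidueField A →ₐ[k] ResidueField B).toLinearMap ?_
    · change ResidueField.map (algebraMap A B) (residue A (algebraMap k A r)) = residue B (algebraMap k B r)
      rw [ResidueField.map_residue, ← IsScalarTower.algebraMap_apply k A B]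
    · intro z
      obtain ⟨y, rfl⟩ := residue_surjective z
      obtain ⟨x, rfl⟩ := Ideal.Quotient.mk_surjective y
      exact ⟨residue A x, ResidueField.map_residue _ x⟩
  obtain ⟨d, hd, c', hc', D, b', hD⟩ := exists_derivations k B
  obtain ⟨c, rfl⟩ := Ideal.Quotient.mk_surjective c'
  choose b hb using fun j => Ideal.Quotient.mk_surjective (b' j)
  let f : KaehlerDifferential k A →ₗ[A] (Fin d → B) := LinearMap.pi fun i =>
    ((D i).liftKaehlerDifferential.restrictScalars A) ∘ₗ KaehlerDifferential.map k k A B
  have := SGA3a.isAdicComplete_module_of_finite (A := A) (Fin d → B)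
  refine ⟨d, hd, c, fun h => hc' (Ideal.Quotient.eq_zero_iff_mem.2 h),
    (AdicCompletion.ofLinearEquiv (maximalIdeal A) (Fin d → B)).symm.toLinearMap ∘ₗ
      (AdicCompletion.map (maximalIdeal A) f).restrictScalars A,
    fun j => AdicCompletion.of (maximalIdeal A) _ (KaehlerDifferential.D k A (b j)), fun i j => ?_⟩
  rw [LinearMap.comp_apply, LinearMap.restrictScalars_apply, AdicCompletion.map_of]
  change (AdicCompletion.ofLinearEquiv (maximalIdeal A) (Fin d → B)).symm (AdicCompletion.of _ _ _) i = _
  rw [AdicCompletion.ofLinearEquiv_symm_of]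
  change (D i).liftKaehlerDifferential (KaehlerDifferential.map k k A B (KaehlerDifferential.D k A (b j))) = _
  rw [KaehlerDifferential.map_D, Derivation.liftKaehlerDifferential_comp_D, Ideal.Quotient.algebraMap_eq,
    hb, hD]

end Groth.Agent.OmegaHat14
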