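import Mathlib
import Groth.Agent.Var76.KaehlerFibre
import Groth.Agent.OmegaHat14.Der

/-!
Lower bound on the fibres of the completed module of differentials.
-/

set_option autoImplicit false

open scoped TensorProduct

namespace Groth.Agent.OmegaHat14

universe u

theorem natCast_le_rank_residueField {A M : Type u} [CommRing A] [IsNoetherianRing A] [AddCommGroup M]
    [Module A M] (p q : Ideal A) [p.IsPrime] [q.IsPrime] (hqp : q ≤ p) {d : ℕ}
    (Φ : M →ₗ[A] (Fin d → A ⧸ q)) (w : Fin d → M) (c : A) (hc : c ∉ q)
    (h : ∀ i j, Φ (w j) i = if i = j then Ideal.Quotient.mk q c else 0) :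
    (d : Cardinal.{u}) ≤ Module.rank p.ResidueField (p.ResidueField ⊗[A] M) := by
  classical
  have : Module.Finite A (A ⧸ q) := Module.Finite.of_surjective (Algebra.linearMap A (A ⧸ q)) Ideal.Quotient.mk_surjective
  set N := LinearMap.range Φ
  have : Module.Finite A N := Module.Finite.iff_fg.2 (IsNoetherian.noetherian N)
  have h1 : Module.rank p.ResidueField (p.ResidueField ⊗[A] N) ≤
      Module.rank p.ResidueField (p.ResidueField ⊗[A] M) :=
    LinearMap.rank_le_of_surjective (Φ.rangeRestrict.baseChange p.ResidueField)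
      (LinearMap.baseChange_surjective (g := Φ.rangeRestrict) (A := p.ResidueField) Φ.surjective_rangeRestrict)
  refine le_trans ?_ h1
  let b : N → p.ResidueField ⊗[A] N := fun n => 1 ⊗ₜ n
  have hb : Submodule.span p.ResidueField (Set.range b) = ⊤ := by
    rw [eq_top_iff]
    rintro z -
    induction z using TensorProduct.induction_on with
    | zero => simp
    | add x y hx hy => exact add_mem hx hy
    | tmul r n =>
      rw [show r ⊗ₜ[A] n = r • b n by simp [b, TensorProduct.smul_tmul']]
      exact Submodule.smul_mem _ _ (Submodule.subset_span ⟨n, rfl⟩)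
  obtain ⟨κ, e, he, hspan, hli⟩ := exists_linearIndependent' p.ResidueField b
  rw [hb] at hspan
  let B := Module.Basis.mk hli (le_of_eq hspan.symm)
  have : Fintype κ := FiniteDimensional.fintypeBasisIndex B
  obtain ⟨a, ha, hav⟩ := Var76.KaehlerFibre.exists_notMem_smul_le p e hspan
  rw [rank_eq_card_basis B]
  refine Nat.cast_le.2 ?_
  let L := FractionRing (A ⧸ q)
  let φ : N →ₗ[A] (Fin d → L) := (LinearMap.pi fun i => (Algebra.linearMap (A ⧸ q) L).restrictScalars A ∘ₗ LinearMap.proj i ∘ₗ N.subtype)
  let S := Submodule.span L (Set.range fun j => φ (e j))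
  have hS : ∀ n : N, φ n ∈ S := fun n => by
    have h2 : φ (a • n) ∈ S := by
      have := Submodule.apply_mem_span_image_of_mem_span φ (hav n)
      rw [← Set.range_comp] at this
      exact Submodule.span_le_restrictScalars A L _ this
    have ha' : algebraMap A L a ≠ 0 := by
      rw [IsScalarTower.algebraMap_apply A (A ⧸ q) L]
      exact (map_ne_zero_iff _ (IsFractionRing.injective (A ⧸ q) L)).2
        fun h0 => ha (hqp (Ideal.Quotient.eq_zero_iff_mem.1 h0))
    rw [map_smul, ← algebraMap_smul L a (φ n)] at h2
    exact (S.smul_mem_iff ha').1 h2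
  have htop : S = ⊤ := by
    rw [eq_top_iff]
    intro x _
    have hc' : algebraMap (A ⧸ q) L (Ideal.Quotient.mk q c) ≠ 0 :=
      (map_ne_zero_iff _ (IsFractionRing.injective (A ⧸ q) L)).2 fun h0 => hc (Ideal.Quotient.eq_zero_iff_mem.1 h0)
    have hj : ∀ j, (Pi.single j 1 : Fin d → L) ∈ S := fun j => by
      have h2 := hS ⟨Φ (w j), LinearMap.mem_range_self Φ _⟩
      have h3 : φ ⟨Φ (w j), LinearMap.mem_range_self Φ _⟩ =
          algebraMap (A ⧸ q) L (Ideal.Quotient.mk q c) • Pi.single j 1 := by
        ext i
        change algebraMap (A ⧸ q) L (Φ (w j) i) = _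
        rw [h, Pi.smul_apply, Pi.single_apply, smul_eq_mul]
        split_ifs <;> simp
      rw [h3] at h2
      exact (S.smul_mem_iff hc').1 h2
    rw [pi_eq_sum_univ' x]
    exact sum_mem fun j _ => S.smul_mem _ (hj j)
  have h4 := finrank_range_le_card (R := L) (fun j => φ (e j))
  rw [Set.finrank, show Submodule.span L (Set.range fun j => φ (e j)) = ⊤ from htop, finrank_top,
    Module.finrank_fin_fun] at h4
  exact h4

end Groth.Agent.OmegaHat14
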