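import Mathlib
import Groth.Agent.OmegaHat14.Omega
import Groth.Agent.OmegaHat14.Rank
import Groth.Agent.Sop14.Lift

/-!
Choice of parameters whose differentials span a fibre of the completed differentials.
-/

set_option autoImplicit false

open IsLocalRing
open scoped TensorProduct

namespace Groth.Agent.OmegaHat14

universe u

theorem exists_parameters {A : Type u} [CommRing A] [IsLocalRing A] [IsNoetherianRing A]
    (p : Ideal A) [p.IsPrime] (hp : p ≠ maximalIdeal A) {n m : ℕ} (hn : ringKrullDim A = n) (hnm : n ≤ m)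
    {V : Type u} [AddCommGroup V] [Module p.ResidueField V] [Module A V] [IsScalarTower A p.ResidueField V]
    [FiniteDimensional p.ResidueField V] (δ : A → V) (hadd : ∀ x y, δ (x + y) = δ x + δ y)
    (hmul : ∀ x y, δ (x * y) = x • δ y + y • δ x)
    (hspan : Submodule.span p.ResidueField (Set.range δ) = ⊤)
    (hm : Module.finrank p.ResidueField V ≤ m) :
    ∃ t : Fin m → A, (∀ i, t i ∈ maximalIdeal A) ∧ maximalIdeal A ≤ (Ideal.span (Set.range t)).radical ∧
      Submodule.span p.ResidueField (Set.range fun i => δ (t i)) = ⊤ := by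
  classical
  suffices H : ∀ i, ∃ t : Fin i → A, (∀ j, t j ∈ maximalIdeal A) ∧
      (maximalIdeal A ≤ (Ideal.span (Set.range t)).radical ∨
        ringKrullDim (A ⧸ Ideal.span (Set.range t)) + (i : WithBot ℕ∞) = n) ∧
      (Submodule.span p.ResidueField (Set.range fun j => δ (t j)) = ⊤ ∨
        i ≤ Module.finrank p.ResidueField (Submodule.span p.ResidueField (Set.range fun j => δ (t j)))) by
    obtain ⟨t, ht, h1, h2⟩ := H m
    refine ⟨t, ht, ?_, ?_⟩
    · rcases h1 with h1 | h1
      · exact h1
      · have hne : Ideal.span (Set.range t) ≠ ⊤ := fun h =>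
          (maximalIdeal.isMaximal A).ne_top (top_le_iff.1 (h ▸ Ideal.span_le.2 (Set.range_subset_iff.2 ht)))
        have : Nontrivial (A ⧸ Ideal.span (Set.range t)) := Ideal.Quotient.nontrivial_iff.2 hne
        have h0 : ringKrullDim (A ⧸ Ideal.span (Set.range t)) ≤ 0 := by
          by_contra hcon
          rw [not_le] at hcon
          have h3 : (1 : WithBot ℕ∞) ≤ ringKrullDim (A ⧸ Ideal.span (Set.range t)) :=
            Order.succ_le_of_lt hcon
          have h4 : (1 : WithBot ℕ∞) + (m : WithBot ℕ∞) ≤ (n : WithBot ℕ∞) := h1 ▸ add_le_add h3 le_rfl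
          rw [← Nat.cast_one, ← Nat.cast_add, Nat.cast_le] at h4
          omega
        have : Ring.KrullDimLE 0 (A ⧸ Ideal.span (Set.range t)) := by
          rw [Ring.KrullDimLE, Order.krullDimLE_iff]; exact h0
        rw [Ideal.radical_eq_sInf]
        refine le_sInf fun P hP => ?_
        obtain ⟨hle, hPp⟩ := hP
        have hmap : (P.map (Ideal.Quotient.mk (Ideal.span (Set.range t)))).IsPrime :=
          Ideal.map_isPrime_of_surjective Ideal.Quotient.mk_surjective (by rwa [Ideal.mk_ker])
        have hmax := Ideal.IsPrime.isMaximal' (I := P.map (Ideal.Quotient.mk (Ideal.span (Set.range t))))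
        have := Ideal.comap_isMaximal_of_surjective (Ideal.Quotient.mk (Ideal.span (Set.range t))) Ideal.Quotient.mk_surjective
          (K := P.map (Ideal.Quotient.mk (Ideal.span (Set.range t))))
        rw [Ideal.comap_map_of_surjective _ Ideal.Quotient.mk_surjective, ← RingHom.ker_eq_comap_bot, Ideal.mk_ker,
          sup_eq_left.2 hle] at this
        exact (IsLocalRing.eq_maximalIdeal this).ge
    · rcases h2 with h2 | h2
      · exact h2
      · exact Submodule.eq_top_of_finrank_eq (le_antisymm (Submodule.finrank_le _) (hm.trans h2))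
  intro i
  induction i with
  | zero =>
    refine ⟨Fin.elim0, fun j => j.elim0, Or.inr ?_, Or.inr (Nat.zero_le _)⟩
    rw [Set.range_eq_empty, Ideal.span_empty, Nat.cast_zero, add_zero, ← hn]
    exact ringKrullDim_eq_of_ringEquiv (RingEquiv.quotientBot A)
  | succ i ih =>
    obtain ⟨t, ht, h1, h2⟩ := ih
    set J := Ideal.span (Set.range t)
    set W := Submodule.span p.ResidueField (Set.range fun j => δ (t j))
    obtain ⟨t₀, ht₀, hW⟩ : ∃ t₀ ∈ maximalIdeal A, W = ⊤ ∨ δ t₀ ∉ W := by
      by_cases hW : W = ⊤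
      · exact ⟨0, zero_mem _, Or.inl hW⟩
      · by_contra! hcon
        refine hW (eq_top_iff.2 (hspan ▸ Submodule.span_le.2 ?_))
        rintro _ ⟨a, rfl⟩
        obtain ⟨τ, hτ, hτp⟩ := SetLike.exists_of_lt
          (lt_of_le_of_ne (le_maximalIdeal ‹p.IsPrime›.ne_top) hp)
        have h3 := (hcon (a * τ) (Ideal.mul_mem_left _ _ hτ)).2
        rw [hmul] at h3
        have h4 : τ • δ a ∈ W := (Submodule.add_mem_iff_right _ (W.smul_of_tower_mem a (hcon τ hτ).2)).1 h3
        rw [← algebraMap_smul p.ResidueField τ] at h4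
        exact (W.smul_mem_iff fun h0 => hτp (Ideal.algebraMap_residueField_eq_zero.1 h0)).1 h4
    let Ps := (Ideal.finite_minimalPrimes_of_isNoetherianRing A J).toFinset.filter (fun P => P ≠ maximalIdeal A)
    have hPs : ∀ {P}, P ∈ Ps ↔ P ∈ J.minimalPrimes ∧ P ≠ maximalIdeal A := fun {P} => by simp [Ps]
    let K := maximalIdeal A ⊓ (Ps.filter fun P => t₀ ∉ P).inf id
    obtain ⟨y, hyK, hy⟩ : ∃ y ∈ K, ∀ P ∈ Ps, t₀ ∈ P → y ∉ P := by
      by_contra! hcon
      have hsub : (K : Set A) ⊆ ⋃ P ∈ ((Ps.filter fun P => t₀ ∈ P) : Set (Ideal A)), (P : Set A) := by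
        intro y hy
        obtain ⟨P, hP, htP, hyP⟩ := hcon y hy
        exact Set.mem_biUnion (Finset.mem_coe.2 (Finset.mem_filter.2 ⟨hP, htP⟩)) hyP
      obtain ⟨P, hP, hle⟩ := (Ideal.subset_union_prime ⊥ ⊥ (fun P hP _ _ =>
        ((hPs.1 (Finset.mem_filter.1 hP).1).1).1.1)).1 hsub
      obtain ⟨hPm, htP⟩ := Finset.mem_filter.1 hP
      obtain ⟨hPmin, hPne⟩ := hPs.1 hPm
      rcases hPmin.1.1.inf_le.1 hle with h | h
      · exact hPne (((maximalIdeal.isMaximal A).eq_of_le hPmin.1.1.ne_top h).symm)
      · obtain ⟨P', hP', hle'⟩ := hPmin.1.1.inf_le'.1 h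
        obtain ⟨hP'm, htP'⟩ := Finset.mem_filter.1 hP'
        have hP'min := (hPs.1 hP'm).1
        exact htP' ((show P' = P from le_antisymm hle' (hPmin.2 hP'min.1 hle')) ▸ htP)
    have hym : y ∈ maximalIdeal A := hyK.1
    have hout : ∀ P ∈ Ps, t₀ ∉ P → y ∈ P := fun P hP h =>
      (Finset.inf_le (f := id) (Finset.mem_filter.2 ⟨hP, h⟩)) hyK.2
    have havoid : ∀ z : A, (∀ P : Ideal A, y ∈ P → z ∈ P) → (∀ P : Ideal A, P.IsPrime → y ∉ P → z ∉ P) →
        ∀ P ∈ Ps, t₀ + z ∉ P := by
      intro z hz1 hz2 P hP hmem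
      by_cases h : t₀ ∈ P
      · exact hz2 P (hPs.1 hP).1.1.1 (hy P hP h) ((Ideal.add_mem_iff_right _ h).1 hmem)
      · exact h ((Ideal.add_mem_iff_left _ (hz1 P (hout P hP h))).1 hmem)
    obtain ⟨t₁, ht₁, hW₁, hav₁⟩ : ∃ t₁ ∈ maximalIdeal A, (W = ⊤ ∨ δ t₁ ∉ W) ∧ ∀ P ∈ Ps, t₁ ∉ P := by
      have hav_y := havoid y (fun _ h => h) (fun _ _ h => h)
      have hav_y2 := havoid (y * y) (fun P h => P.mul_mem_left _ h) (fun P hP h h' => h ((hP.mem_or_mem h').elim id id))
      rcases hW with hW | hW
      · exact ⟨t₀ + y, add_mem ht₀ hym, Or.inl hW, hav_y⟩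
      by_cases h : δ (t₀ + y) ∈ W
      · refine ⟨t₀ + y * y, add_mem ht₀ (Ideal.mul_mem_left _ _ hym), Or.inr fun h' => hW ?_, hav_y2⟩
        rw [hadd] at h
        rw [hadd, hmul] at h'
        have h5 : (1 - 2 * y) • δ y ∈ W := by
          have h6 := sub_mem h h'
          convert h6 using 1
          rw [sub_smul, one_smul, two_mul, add_smul]
          abel
        have hu : IsUnit (1 - 2 * y) := IsLocalRing.isUnit_one_sub_self_of_mem_nonunits _ (Ideal.mul_mem_left _ _ hym)
        obtain ⟨u, hu⟩ := hu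
        have h7 := W.smul_of_tower_mem (↑u⁻¹ : A) (hu ▸ h5)
        rw [smul_smul, Units.inv_mul, one_smul] at h7
        exact (Submodule.add_mem_iff_left _ h7).1 h
      · exact ⟨t₀ + y, add_mem ht₀ hym, Or.inr h, hav_y⟩
    refine ⟨Fin.snoc t t₁, fun j => ?_, ?_, ?_⟩
    · induction j using Fin.lastCases with
      | last => simpa using ht₁
      | cast j => simpa using ht j
    · have hspanJ : Ideal.span (Set.range (Fin.snoc t t₁ : Fin (i + 1) → A)) = J ⊔ Ideal.span {t₁} := by
        rw [Fin.range_snoc, Ideal.span_insert, sup_comm]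
      rw [hspanJ]
      rcases h1 with h1 | h1
      · exact Or.inl (h1.trans (Ideal.radical_mono le_sup_left))
      by_cases hmm : maximalIdeal A ∈ J.minimalPrimes
      · refine Or.inl (le_trans ?_ (Ideal.radical_mono le_sup_left))
        rw [Ideal.radical_eq_sInf]
        exact le_sInf fun P ⟨hJP, hPp⟩ => hmm.2 ⟨hPp, hJP⟩ (le_maximalIdeal hPp.ne_top)
      · refine Or.inr ?_
        have hJne : J ≠ ⊤ := fun h =>
          (maximalIdeal.isMaximal A).ne_top (top_le_iff.1 (h ▸ Ideal.span_le.2 (Set.range_subset_iff.2 ht)))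
        rw [← h1, ← Sop14.dim_sup_span_singleton J hJne ht₁ (fun P hP => hav₁ P (hPs.2 ⟨hP, fun h => hmm (h ▸ hP)⟩)),
          Nat.cast_succ, add_assoc, add_comm (i : WithBot ℕ∞)]
    · have hrange : (Set.range fun j => δ ((Fin.snoc t t₁ : Fin (i + 1) → A) j)) = insert (δ t₁) (Set.range fun j => δ (t j)) := by
        rw [← Function.comp_def, Set.range_comp, Fin.range_snoc, Set.image_insert_eq, ← Set.range_comp]
        rfl
      rw [hrange, Submodule.span_insert]
      rcases hW₁ with hW₁ | hW₁
      · exact Or.inl (eq_top_iff.2 (hW₁.ge.trans le_sup_right))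
      rcases h2 with h2 | h2
      · exact absurd (h2 ▸ Submodule.mem_top) hW₁
      refine Or.inr (Nat.succ_le_of_lt (lt_of_le_of_lt h2 (Submodule.finrank_lt_finrank_of_lt ?_)))
      exact lt_of_le_not_ge le_sup_right fun h =>
        hW₁ (h (Submodule.mem_sup_left (Submodule.mem_span_singleton_self _)))

variable {A : Type u} [CommRing A] (p : Ideal A) [p.IsPrime] {M : Type u} [AddCommGroup M] [Module A M]

theorem exists_smul_mem_of_span_localized {ι : Type*} (s : ι → LocalizedModule p.primeCompl M) (w : ι → M)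
    (u : ι → p.primeCompl) (hs : ∀ i, s i = LocalizedModule.mk (w i) (u i))
    (h : Submodule.span (Localization.AtPrime p) (Set.range s) = ⊤) (x : M) :
    ∃ a ∉ p, a • x ∈ Submodule.span A (Set.range w) := by
  have key : ∀ z ∈ Submodule.span (Localization.AtPrime p) (Set.range s),
      ∃ y ∈ Submodule.span A (Set.range w), ∃ v : p.primeCompl, z = LocalizedModule.mk y v := by
    intro z hz
    induction hz using Submodule.span_induction with
    | mem z hz =>
      obtain ⟨i, rfl⟩ := hz
      exact ⟨w i, Submodule.subset_span ⟨i, rfl⟩, u i, hs i⟩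
    | zero => exact ⟨0, zero_mem _, 1, (LocalizedModule.zero_mk _).symm⟩
    | add a b _ _ ha hb =>
      obtain ⟨y, hy, v, rfl⟩ := ha
      obtain ⟨y', hy', v', rfl⟩ := hb
      refine ⟨v' • y + v • y', add_mem ?_ ?_, v * v', LocalizedModule.mk_add_mk⟩
      · exact Submodule.smul_mem _ _ hy
      · exact Submodule.smul_mem _ _ hy'
    | smul c a _ ha =>
      obtain ⟨y, hy, v, rfl⟩ := ha
      obtain ⟨⟨r, t⟩, rfl⟩ := IsLocalization.mk'_surjective p.primeCompl c
      refine ⟨r • y, Submodule.smul_mem _ _ hy, t * v, ?_⟩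
      rw [← Localization.mk_eq_mk', LocalizedModule.mk_smul_mk]
  obtain ⟨y, hy, v, hv⟩ := key _ (h ▸ Submodule.mem_top : LocalizedModule.mk x 1 ∈ _)
  obtain ⟨c, hc⟩ := LocalizedModule.mk_eq.1 hv
  simp only [Submonoid.smul_def, OneMemClass.coe_one, one_smul, smul_smul] at hc
  exact ⟨(c : A) * v, p.primeCompl.mul_mem c.2 v.2, hc ▸ Submodule.smul_mem _ _ hy⟩

theorem span_residueField_of_span_localized {ι : Type*} (s : ι → LocalizedModule p.primeCompl M) (w : ι → M)
    (u : ι → p.primeCompl) (hs : ∀ i, s i = LocalizedModule.mk (w i) (u i))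
    (h : Submodule.span (Localization.AtPrime p) (Set.range s) = ⊤) :
    Submodule.span p.ResidueField (Set.range fun i => (1 : p.ResidueField) ⊗ₜ[A] w i) = ⊤ := by
  rw [eq_top_iff]
  rintro z -
  induction z using TensorProduct.induction_on with
  | zero => simp
  | add x y hx hy => exact add_mem hx hy
  | tmul r x =>
    obtain ⟨a, ha, hax⟩ := exists_smul_mem_of_span_localized p s w u hs h x
    have h1 : (TensorProduct.mk A p.ResidueField M 1) (a • x) ∈
        Submodule.span p.ResidueField (Set.range fun i => (1 : p.ResidueField) ⊗ₜ[A] w i) := by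
      have := Submodule.apply_mem_span_image_of_mem_span (TensorProduct.mk A p.ResidueField M 1) hax
      rw [← Set.range_comp] at this
      exact Submodule.span_le_restrictScalars A p.ResidueField _ this
    rw [map_smul, ← algebraMap_smul p.ResidueField a] at h1
    have h2 := (Submodule.smul_mem_iff _ fun h0 => ha (Ideal.algebraMap_residueField_eq_zero.1 h0)).1 h1
    rw [show r ⊗ₜ[A] x = r • ((1 : p.ResidueField) ⊗ₜ[A] x) by rw [TensorProduct.smul_tmul', smul_eq_mul, mul_one]]
    exact Submodule.smul_mem _ r h2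

theorem span_localized_of_smul_mem {ι : Type*} (w : ι → M) (a : A) (ha : a ∉ p)
    (h : ∀ x, a • x ∈ Submodule.span A (Set.range w)) :
    Submodule.span (Localization.AtPrime p)
      (Set.range fun i => (LocalizedModule.mk (w i) 1 : LocalizedModule p.primeCompl M)) = ⊤ := by
  rw [eq_top_iff]
  rintro z -
  induction z using LocalizedModule.induction_on with
  | h x v =>
    have h1 : LocalizedModule.mkLinearMap p.primeCompl M (a • x) ∈
        Submodule.span (Localization.AtPrime p)
          (Set.range fun i => (LocalizedModule.mk (w i) 1 : LocalizedModule p.primeCompl M)) := by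
      have := Submodule.apply_mem_span_image_of_mem_span (LocalizedModule.mkLinearMap p.primeCompl M) (h x)
      rw [← Set.range_comp] at this
      exact Submodule.span_le_restrictScalars A (Localization.AtPrime p) _ this
    have h2 : (LocalizedModule.mk x v : LocalizedModule p.primeCompl M) =
        Localization.mk 1 ((⟨a, ha⟩ : p.primeCompl) * v) • LocalizedModule.mkLinearMap p.primeCompl M (a • x) := by
      rw [LocalizedModule.mkLinearMap_apply, LocalizedModule.mk_smul_mk, one_smul, mul_one, LocalizedModule.mk_eq]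
      exact ⟨1, by simp only [one_smul, Submonoid.smul_def, Submonoid.coe_mul, smul_smul, mul_comm]⟩
    rw [h2]
    exact Submodule.smul_mem _ _ h1

end Groth.Agent.OmegaHat14
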