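import Mathlib
import Groth.Agent.OmegaHat14.Select

/-!
Power series parametrisations unramified at a prime.
-/

set_option autoImplicit false

open IsLocalRing
open scoped TensorProduct

namespace Groth.Agent.OmegaHat14

universe u

variable (k A : Type u) [Field k] [CommRing A] [IsLocalRing A] [IsNoetherianRing A] [Algebra k A]
  [IsAdicComplete (maximalIdeal A) A] [Module.Finite k (ResidueField A)]

theorem span_residueField_dhat (p : Ideal A) [p.IsPrime] :
    Submodule.span p.ResidueField (Set.range fun x => (1 : p.ResidueField) ⊗ₜ[A] dhat k A x) = ⊤ ∧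
      Module.Finite A (AdicCompletion (maximalIdeal A) (KaehlerDifferential k A)) := by
  obtain ⟨N, g, hg⟩ := Submodule.fg_iff_exists_fin_generating_family.1
    (IsNoetherian.noetherian (maximalIdeal A))
  obtain ⟨w, hloc, hfin, hw⟩ := exists_powerSeries_finite k A g
    (fun i => hg ▸ Submodule.subset_span ⟨i, rfl⟩) (hg.ge.trans Ideal.le_radical)
  letI : Algebra (MvPowerSeries (Fin N) k) A := w.toRingHom.toAlgebra
  have : IsScalarTower k (MvPowerSeries (Fin N) k) A := IsScalarTower.of_algebraMap_eq fun x => (w.commutes x).symm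
  have : Module.Finite (MvPowerSeries (Fin N) k) A := hfin
  have ht : ∀ i, algebraMap (MvPowerSeries (Fin N) k) A (MvPowerSeries.X i) ∈ maximalIdeal A :=
    fun i => (hw i).symm ▸ hg ▸ Submodule.subset_span ⟨i, rfl⟩
  refine ⟨?_, finite_completedKaehler k A ht⟩
  obtain ⟨n, β, hβ⟩ := exists_span_dhat k A ht
  rw [eq_top_iff]
  rintro z -
  induction z using TensorProduct.induction_on with
  | zero => simp
  | add x y hx hy => exact add_mem hx hy
  | tmul r x =>
    obtain ⟨c, rfl⟩ := (Submodule.mem_span_range_iff_exists_fun A).1 (hβ ▸ Submodule.mem_top : x ∈ _)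
    rw [TensorProduct.tmul_sum]
    refine sum_mem fun l _ => ?_
    rw [← TensorProduct.smul_tmul, show (c l • r) = (c l • r) • (1 : p.ResidueField) by rw [smul_eq_mul, mul_one],
      ← TensorProduct.smul_tmul']
    refine Submodule.smul_mem _ _ (Submodule.subset_span ?_)
    cases l with
    | inl i => exact ⟨_, rfl⟩
    | inr l => exact ⟨_, rfl⟩

theorem exists_unramified_of_span (p : Ideal A) [p.IsPrime] (hp : p ≠ maximalIdeal A)
    (hq : ∃ q ∈ minimalPrimes A, q ≤ p ∧ ringKrullDim (A ⧸ q) = ringKrullDim A) (m : ℕ)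
    (s : Fin m → LocalizedModule p.primeCompl (AdicCompletion (maximalIdeal A) (KaehlerDifferential k A)))
    (hs : Submodule.span (Localization.AtPrime p) (Set.range s) = ⊤) :
    ∃ (_ : Algebra (MvPowerSeries (Fin m) k) A) (_ : IsScalarTower k (MvPowerSeries (Fin m) k) A),
      IsLocalHom (algebraMap (MvPowerSeries (Fin m) k) A) ∧ Module.Finite (MvPowerSeries (Fin m) k) A ∧
        Algebra.IsUnramifiedAt (MvPowerSeries (Fin m) k) p := by
  classical
  have hex : ∀ i, ∃ (x : AdicCompletion (maximalIdeal A) (KaehlerDifferential k A)) (v : p.primeCompl),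
      s i = LocalizedModule.mk x v := fun i =>
    LocalizedModule.induction_on (β := fun z => ∃ x v, z = LocalizedModule.mk x v) (fun x v => ⟨x, v, rfl⟩) (s i)
  choose w u hwu using hex
  obtain ⟨hspanκ, hfinΩ⟩ := span_residueField_dhat k A p
  let V := p.ResidueField ⊗[A] AdicCompletion (maximalIdeal A) (KaehlerDifferential k A)
  have hm : Module.finrank p.ResidueField V ≤ m := by
    have h := finrank_range_le_card (R := p.ResidueField) (fun i => ((1 : p.ResidueField) ⊗ₜ[A] w i : V))
    rwa [Set.finrank, span_residueField_of_span_localized p s w u hwu hs, finrank_top, Fintype.card_fin] at h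
  obtain ⟨q, hqmin, hqp, hqdim⟩ := hq
  have : q.IsPrime := hqmin.1.1
  obtain ⟨n, hn, c, hc, Φ, e, he⟩ := exists_map_to_pi k A q
  rw [hqdim] at hn
  have hnm : n ≤ m := by
    have h1 := natCast_le_rank_residueField p q hqp Φ e c hc he
    rw [← Module.finrank_eq_rank, Nat.cast_le] at h1
    exact h1.trans hm
  let δ : A → V := fun x => 1 ⊗ₜ[A] dhat k A x
  obtain ⟨t, ht, hrad, htspan⟩ := exists_parameters p hp hn hnm δ
    (fun x y => by simp [δ, TensorProduct.tmul_add])
    (fun x y => by simp [δ, Derivation.leibniz, TensorProduct.tmul_add, TensorProduct.tmul_smul])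
    hspanκ hm
  obtain ⟨φ, hloc, hfin, hφ⟩ := exists_powerSeries_finite k A t ht hrad
  letI : Algebra (MvPowerSeries (Fin m) k) A := φ.toRingHom.toAlgebra
  have hst : IsScalarTower k (MvPowerSeries (Fin m) k) A := IsScalarTower.of_algebraMap_eq fun x => (φ.commutes x).symm
  have : Module.Finite (MvPowerSeries (Fin m) k) A := hfin
  refine ⟨φ.toRingHom.toAlgebra, hst, hloc, hfin, ?_⟩
  rw [isUnramifiedAt_iff k A (fun i => (hφ i).symm ▸ ht i) p,
    show (fun i => dhat k A (algebraMap (MvPowerSeries (Fin m) k) A (MvPowerSeries.X i))) = fun i => dhat k A (t i)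
      from funext fun i => congrArg (dhat k A) (hφ i)]
  exact Var76.KaehlerFibre.exists_notMem_smul_le p _ htspan

theorem span_of_unramified (p : Ideal A) [p.IsPrime] (m : ℕ) [Algebra (MvPowerSeries (Fin m) k) A]
    [IsScalarTower k (MvPowerSeries (Fin m) k) A] [IsLocalHom (algebraMap (MvPowerSeries (Fin m) k) A)]
    [Module.Finite (MvPowerSeries (Fin m) k) A] (h : Algebra.IsUnramifiedAt (MvPowerSeries (Fin m) k) p) :
    Submodule.span (Localization.AtPrime p) (Set.range fun i => (LocalizedModule.mk
      (dhat k A (algebraMap (MvPowerSeries (Fin m) k) A (MvPowerSeries.X i))) 1 :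
      LocalizedModule p.primeCompl (AdicCompletion (maximalIdeal A) (KaehlerDifferential k A)))) = ⊤ := by
  have ht : ∀ i, algebraMap (MvPowerSeries (Fin m) k) A (MvPowerSeries.X i) ∈ maximalIdeal A := fun i =>
    fun hu => (CAlg6.mem_maximalIdeal_iff.2 (MvPowerSeries.constantCoeff_X i)) (isUnit_of_map_unit _ _ hu)
  obtain ⟨a, ha, haw⟩ := (isUnramifiedAt_iff k A ht p).1 h
  exact span_localized_of_smul_mem p _ a ha haw

end Groth.Agent.OmegaHat14
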