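import Mathlib
import Groth.Prelude.Def_Found
import Groth.Agent.OmegaHat14.Unram
import Groth.Agent.Cohen12.GeomRegular
import Groth.Agent.CAlg5.GeomRegularFG
import Groth.Agent.CAlg5.GeomRegular
import Groth.Agent.CAlg6.RegularNormal
import Groth.Agent.CAlg1.Miracle
import Groth.Agent.EGA4H10.RegAway
import Groth.Agent.S4533
import Groth.Agent.S9560
import Groth.Agent.FSAdic12.Basic

/-!
Étaleness of a finite power series parametrisation at a prime where it is unramified.
-/

set_option autoImplicit false

open IsLocalRing
open scoped TensorProduct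

namespace Groth.Agent.OmegaHat14

universe u

theorem isGeometricallyRegular_powerSeries (k : Type u) [Field k] (m : ℕ) :
    CAlg.IsGeometricallyRegular k (MvPowerSeries (Fin m) k) := by
  refine Cohen12.isGeometricallyRegular_of_formallySmooth ?_
  rw [FSAdic12.isAdicFormallySmooth_iff]
  have h := S4533.result k ⊥ m
  rwa [Ideal.map_bot, bot_sup_eq,
    show RingHom.ker (MvPowerSeries.constantCoeff : MvPowerSeries (Fin m) k →+* k) =
      maximalIdeal (MvPowerSeries (Fin m) k) from Ideal.ext fun f => CAlg6.mem_maximalIdeal_iff.symm] at h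

theorem isGeometricallyRegular_of_isLocalization {k T : Type u} [Field k] [CommRing T] [Algebra k T]
    (M : Submonoid T) (L : Type u) [CommRing L] [Algebra k L] [Algebra T L] [IsScalarTower k T L]
    [IsLocalization M L] (h : CAlg.IsGeometricallyRegular k T) : CAlg.IsGeometricallyRegular k L := by
  intro l _ _ hl
  have := h l hl
  have : IsRegularRing (T ⊗[k] l) := IsRegularRing.of_ringEquiv (Algebra.TensorProduct.comm k l T).toRingEquiv
  have := CAlg5.isRegularRing_of_isLocalization (Algebra.algebraMapSubmonoid (T ⊗[k] l) M) ((T ⊗[k] l) ⊗[T] L)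
  exact IsRegularRing.of_ringEquiv <|
    (Algebra.TensorProduct.comm T (T ⊗[k] l) L).toRingEquiv.trans <|
    (Algebra.TensorProduct.cancelBaseChange k T T L l).toRingEquiv.trans
      (Algebra.TensorProduct.comm k L l).toRingEquiv

theorem isEtaleAt_of_unramified (k A : Type u) [Field k] [CommRing A] [IsLocalRing A] [IsNoetherianRing A]
    [Algebra k A] {m : ℕ} [Algebra (MvPowerSeries (Fin m) k) A]
    [Module.Finite (MvPowerSeries (Fin m) k) A] (p : Ideal A) [p.IsPrime]
    [Algebra.IsUnramifiedAt (MvPowerSeries (Fin m) k) p]
    (q : Ideal A) [q.IsPrime] (hqp : q ≤ p) (hdim : ringKrullDim (A ⧸ q) = m) :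
    Algebra.IsEtaleAt (MvPowerSeries (Fin m) k) p := by
  let R := MvPowerSeries (Fin m) k
  have : IsRegularLocalRing R := CAlg6.isRegularLocalRing_mvPowerSeries
  have : IsDomain R := CAlg1.isDomain_regular R
  have : IsIntegrallyClosed R := CAlg6.isIntegrallyClosed_of_regular R
  let B := A ⧸ q
  have : Module.Finite R B := Module.Finite.trans A B
  have hinj : Function.Injective (algebraMap R B) := by
    let φ := algebraMap R B
    have hrd : ringKrullDim φ.range = (m : WithBot ℕ∞) := by
      refine le_antisymm ?_ ?_
      · exact (ringKrullDim_le_of_surjective φ.rangeRestrict φ.rangeRestrict_surjective).trans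
          CAlg6.ringKrullDim_mvPowerSeries.le
      · rw [← hdim]
        have h2 : φ.range.subtype.Finite := RingHom.Finite.of_comp_finite (f := φ.rangeRestrict)
          ((RingHom.finite_algebraMap (A := R) (B := B)).2 inferInstance)
        have : Module.Finite φ.range B := h2
        have : Algebra.IsIntegral φ.range B := Algebra.IsIntegral.of_finite _ _
        exact EGA4Alg4.ringKrullDim_le_of_integral φ.range B
    have h := CAlg6.injective_of_surjective_of_ringKrullDim_eq φ.rangeRestrict φ.rangeRestrict_surjective
      m CAlg6.ringKrullDim_mvPowerSeries hrd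
    exact fun a b hab => h (Subtype.ext hab)
  have : FaithfulSMul R B := (faithfulSMul_iff_algebraMap_injective R B).2 hinj
  have : Algebra.IsIntegral R B := Algebra.IsIntegral.of_finite R B
  let P := p.under R
  let p' : Ideal B := p.map (Ideal.Quotient.mk q)
  have : p'.IsPrime := Ideal.map_isPrime_of_surjective Ideal.Quotient.mk_surjective (by rwa [Ideal.mk_ker])
  have hp' : p'.comap (Ideal.Quotient.mk q) = p := by
    rw [Ideal.comap_map_of_surjective _ Ideal.Quotient.mk_surjective, ← RingHom.ker_eq_comap_bot,
      Ideal.mk_ker, sup_eq_left]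
    exact hqp
  have : p'.LiesOver P := ⟨by
    change p.comap (algebraMap R A) = p'.comap (algebraMap R B)
    rw [IsScalarTower.algebraMap_eq R A B, ← Ideal.comap_comap, Ideal.Quotient.algebraMap_eq, hp']⟩
  have hht : P.height ≤ p.height := by
    refine le_trans ((le_self_add).trans_eq
      (Ideal.height_eq_height_add_of_liesOver_of_hasGoingDown P p').symm) ?_
    rw [(⟨p', inferInstance⟩ : PrimeSpectrum B).height_eq_orderHeight,
      (⟨p, inferInstance⟩ : PrimeSpectrum A).height_eq_orderHeight]
    refine (Order.height_le_height_apply_of_strictMono _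
      (RingHom.strictMono_comap_of_surjective Ideal.Quotient.mk_surjective) _).trans_eq ?_
    exact congrArg Order.height (PrimeSpectrum.ext hp')
  have : p.LiesOver P := ⟨rfl⟩
  let := Localization.AtPrime.algebraOfLiesOver P p
  obtain ⟨hsep, hmap⟩ := (Algebra.isUnramifiedAt_iff_map_eq R P p).mp inferInstance
  have : IsRegularLocalRing (Localization.AtPrime P) := CAlg1.regular_localization R P
  have : IsRegularLocalRing (Localization.AtPrime p) := EGA4H10.regular_of_map_maximal p P hht hmap rfl
  have : LocCoh.IsCohenMacaulayLocalRing (Localization.AtPrime p) := CAlg1.cm_of_isRegularLocalRing _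
  have hmm : (maximalIdeal (Localization.AtPrime P)).map
      (algebraMap (Localization.AtPrime P) (Localization.AtPrime p)) = maximalIdeal (Localization.AtPrime p) := by
    rw [← Localization.AtPrime.map_eq_maximalIdeal (I := P), Ideal.map_map, ← IsScalarTower.algebraMap_eq]
    exact hmap
  have : IsLocalHom (algebraMap (Localization.AtPrime P) (Localization.AtPrime p)) :=
    ((IsLocalRing.local_hom_TFAE _).out 0 2).2 hmm.le
  have hflat : Module.Flat (Localization.AtPrime P) (Localization.AtPrime p) := by
    refine CAlg1.miracle_flatness _ _ _ rfl ?_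
    rw [hmm, ringKrullDim_eq_zero_of_field (ResidueField (Localization.AtPrime p)) |> fun h =>
      (show ringKrullDim (Localization.AtPrime p ⧸ maximalIdeal (Localization.AtPrime p)) = 0 from h), add_zero]
    refine le_antisymm ?_ ?_
    · rw [← IsRegularLocalRing.spanFinrank_maximalIdeal, ← IsRegularLocalRing.spanFinrank_maximalIdeal,
        Nat.cast_le, ← hmm]
      exact Ideal.spanFinrank_map_le_of_fg (algebraMap (Localization.AtPrime P) (Localization.AtPrime p))
        (maximalIdeal (Localization.AtPrime P)).fg_of_isNoetherianRing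
    · rw [IsLocalization.AtPrime.ringKrullDim_eq_height P, IsLocalization.AtPrime.ringKrullDim_eq_height p]
      exact WithBot.coe_le_coe.2 hht
  exact (S9560.result R A P p).2 ⟨hflat, hmap, inferInstance, hsep⟩

theorem isGeometricallyRegular_of_isEtaleAt (k A : Type u) [Field k] [CommRing A]
    [Algebra k A] {m : ℕ} [Algebra (MvPowerSeries (Fin m) k) A]
    [IsScalarTower k (MvPowerSeries (Fin m) k) A]
    [Module.Finite (MvPowerSeries (Fin m) k) A] (p : Ideal A) [p.IsPrime]
    [Algebra.IsEtaleAt (MvPowerSeries (Fin m) k) p] :
    CAlg.IsGeometricallyRegular k (Localization.AtPrime p) := by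
  have : IsRegularLocalRing (MvPowerSeries (Fin m) k) := CAlg6.isRegularLocalRing_mvPowerSeries
  have : Algebra.FinitePresentation (MvPowerSeries (Fin m) k) A :=
    Algebra.FinitePresentation.of_finiteType.mp inferInstance
  obtain ⟨f, hf, het⟩ := Algebra.exists_etale_of_isEtaleAt (R := MvPowerSeries (Fin m) k) p
  let Af := Localization.Away f
  have : IsScalarTower k (MvPowerSeries (Fin m) k) Af := IsScalarTower.to₁₂₄ k (MvPowerSeries (Fin m) k) A Af
  have h1 := CAlg5.isGeometricallyRegular_of_smooth k (MvPowerSeries (Fin m) k) Af
    (isGeometricallyRegular_powerSeries k m)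
  have hle : Submonoid.powers f ≤ p.primeCompl := Submonoid.powers_le.mpr hf
  let := IsLocalization.localizationAlgebraOfSubmonoidLe Af (Localization.AtPrime p) _ _ hle
  have := IsLocalization.localization_isScalarTower_of_submonoid_le Af (Localization.AtPrime p) _ _ hle
  have := IsLocalization.isLocalization_of_submonoid_le Af (Localization.AtPrime p) _ _ hle
  have : IsScalarTower k Af (Localization.AtPrime p) := IsScalarTower.to₁₃₄ k A Af _
  exact isGeometricallyRegular_of_isLocalization (p.primeCompl.map (algebraMap A Af)) _ h1

/-- At a point étale over `k[[T]]` the differentials of the variables are independent. -/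
theorem linearIndependent_dhat (k A : Type u) [Field k] [CommRing A] [IsLocalRing A] [IsNoetherianRing A]
    [Algebra k A] [IsAdicComplete (maximalIdeal A) A] {m : ℕ} [Algebra (MvPowerSeries (Fin m) k) A]
    [IsScalarTower k (MvPowerSeries (Fin m) k) A] [Module.Finite (MvPowerSeries (Fin m) k) A]
    (p : Ideal A) [p.IsPrime] [Algebra.IsEtaleAt (MvPowerSeries (Fin m) k) p] :
    LinearIndependent (Localization.AtPrime p) (fun i => (LocalizedModule.mk
      (dhat k A (algebraMap (MvPowerSeries (Fin m) k) A (MvPowerSeries.X i))) 1 :
      LocalizedModule p.primeCompl (AdicCompletion (maximalIdeal A) (KaehlerDifferential k A)))) := by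
  classical
  let R := MvPowerSeries (Fin m) k
  let L := Localization.AtPrime p
  have : IsScalarTower k R L := IsScalarTower.to₁₂₄ k R A L
  let e := KaehlerDifferential.tensorKaehlerEquivOfFormallyEtale k R L
  let δ : Fin m → Derivation k A L := fun i =>
    (((LinearMap.liftBaseChange L ((Algebra.linearMap R L) ∘ₗ (MvPowerSeries.pderiv k i).liftKaehlerDifferential)) ∘ₗ
      e.symm.toLinearMap).compDer (KaehlerDifferential.D k L)).compAlgebraMap A
  have hδ : ∀ i r, δ i (algebraMap R A r) = algebraMap R L (MvPowerSeries.pderiv k i r) := fun i r => by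
    change LinearMap.liftBaseChange L _ (e.symm (KaehlerDifferential.D k L (algebraMap A L (algebraMap R A r)))) = _
    rw [← IsScalarTower.algebraMap_apply R A L,
      KaehlerDifferential.tensorKaehlerEquivOfFormallyEtale_symm_D_algebraMap,
      LinearMap.liftBaseChange_tmul, one_smul, LinearMap.comp_apply,
      Derivation.liftKaehlerDifferential_comp_D, Algebra.linearMap_apply]
  obtain ⟨n, β, hβ⟩ := Module.Finite.exists_fin (R := R) (M := A)
  let T : Fin m → LocalizedModule p.primeCompl (AdicCompletion (maximalIdeal A) (KaehlerDifferential k A)) :=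
    fun i => LocalizedModule.mk (dhat k A (algebraMap R A (MvPowerSeries.X i))) 1
  rw [Fintype.linearIndependent_iff]
  intro c hc j
  let N : Submodule A L := Submodule.span A (Set.range (Option.elim · 1 fun l => δ j (β l)))
  have : Module.Finite A N := Module.Finite.span_of_finite A (Set.finite_range _)
  have hN : ∀ x, δ j x ∈ N := by
    intro x
    obtain ⟨r, rfl⟩ := (Submodule.mem_span_range_iff_exists_fun R).1 (hβ ▸ Submodule.mem_top : x ∈ _)
    rw [map_sum]
    refine sum_mem fun l _ => ?_
    rw [Algebra.smul_def, Derivation.leibniz, hδ]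
    refine add_mem (N.smul_mem _ (Submodule.subset_span ⟨some l, rfl⟩)) (N.smul_mem _ ?_)
    rw [IsScalarTower.algebraMap_apply R A L, Algebra.algebraMap_eq_smul_one (A := L)]
    exact N.smul_mem _ (Submodule.subset_span ⟨none, rfl⟩)
  let δN : Derivation k A N := Derivation.mk'
    { toFun := fun x => ⟨δ j x, hN x⟩
      map_add' := fun x y => Subtype.ext (map_add _ _ _)
      map_smul' := fun r x => Subtype.ext ((δ j).map_smul r x) }
    fun x y => Subtype.ext ((δ j).leibniz x y)
  obtain ⟨Ψ, hΨ⟩ := exists_extend k A N δN.liftKaehlerDifferential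
  let g := LocalizedModule.lift p.primeCompl (N.subtype ∘ₗ Ψ) fun s => by
    rw [Module.End.isUnit_iff]
    have hu : IsUnit (algebraMap A L s) := IsLocalization.map_units L s
    constructor
    · intro y z hyz
      simp only [Module.algebraMap_end_apply, Algebra.smul_def] at hyz
      exact hu.mul_left_cancel hyz
    · intro y
      obtain ⟨v, hv⟩ := hu
      exact ⟨↑v⁻¹ * y, by rw [Module.algebraMap_end_apply, Algebra.smul_def, ← hv, Units.mul_inv_cancel_left]⟩
  let g' := LinearMap.extendScalarsOfIsLocalization p.primeCompl L g
  have hg : ∀ i, g' (T i) = if i = j then 1 else 0 := fun i => by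
    change g (LocalizedModule.mk _ 1) = _
    rw [show (LocalizedModule.mk (dhat k A (algebraMap R A (MvPowerSeries.X i))) 1 :
        LocalizedModule p.primeCompl _) = LocalizedModule.mkLinearMap p.primeCompl _ _ from rfl]
    rw [show g (LocalizedModule.mkLinearMap p.primeCompl _ (dhat k A (algebraMap R A (MvPowerSeries.X i)))) =
      N.subtype (Ψ (dhat k A (algebraMap R A (MvPowerSeries.X i)))) from by
        simp [g, LocalizedModule.mkLinearMap_apply]]
    rw [dhat_apply, hΨ, Derivation.liftKaehlerDifferential_comp_D]
    change δ j (algebraMap R A (MvPowerSeries.X i)) = _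
    rw [hδ]
    rcases eq_or_ne i j with rfl | h
    · simp
    · rw [MvPowerSeries.pderiv_X_of_ne h, map_zero, if_neg h]
  have h := congrArg g' hc
  rw [map_sum, map_zero] at h
  simp only [map_smul] at h
  rw [Finset.sum_eq_single j] at h
  · rwa [show g' _ = 1 from (hg j).trans (if_pos rfl), smul_eq_mul, mul_one] at h
  · intro i _ hi
    rw [show g' _ = 0 from (hg i).trans (if_neg hi), smul_zero]
  · simp

end Groth.Agent.OmegaHat14
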