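import Mathlib

/-!
Constants of the partial derivatives on a power series ring in characteristic `p`.
-/

set_option autoImplicit false

open MvPowerSeries

namespace Groth.Agent.OmegaHat14

universe u

variable (k : Type u) [Field k] (d : ℕ)

/-- The power series killed by all partial derivatives. -/
def cst : Subalgebra k (MvPowerSeries (Fin d) k) where
  carrier := {f | ∀ i, pderiv k i f = 0}
  mul_mem' := fun {a b} ha hb i => by simp [Derivation.leibniz, ha i, hb i]
  one_mem' := fun i => pderiv_one
  add_mem' := fun {a b} ha hb i => by simp [ha i, hb i]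
  zero_mem' := fun i => map_zero _
  algebraMap_mem' := fun r i => Derivation.map_algebraMap _ r

theorem mem_cst {f : MvPowerSeries (Fin d) k} : f ∈ cst k d ↔ ∀ i, pderiv k i f = 0 := Iff.rfl

variable {k d} (p : ℕ) [CharP k p]

theorem mem_cst_iff {f : MvPowerSeries (Fin d) k} :
    f ∈ cst k d ↔ ∀ n : Fin d →₀ ℕ, coeff n f ≠ 0 → ∀ i, p ∣ n i := by
  classical
  constructor
  · intro hf n hn i
    rcases Nat.eq_zero_or_pos (n i) with h0 | h0
    · simp [h0]
    · have hle : Finsupp.single i 1 ≤ n := Finsupp.single_le_iff.2 h0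
      have h := congrArg (coeff (n - Finsupp.single i 1)) (hf i)
      rw [coeff_pderiv, map_zero, tsub_add_cancel_of_le hle, mul_eq_zero] at h
      have h2 := h.resolve_left hn
      rw [← Nat.cast_add_one, CharP.cast_eq_zero_iff k p] at h2
      convert h2 using 1
      simp only [Finsupp.tsub_apply, Finsupp.single_eq_same]
      omega
  · intro h i
    ext m
    rw [coeff_pderiv, map_zero, mul_eq_zero]
    by_cases hc : coeff (m + Finsupp.single i 1) f = 0
    · exact Or.inl hc
    · refine Or.inr ?_
      rw [← Nat.cast_add_one, CharP.cast_eq_zero_iff k p]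
      simpa using h _ hc i

theorem pow_mem_cst (f : MvPowerSeries (Fin d) k) : f ^ p ∈ cst k d := fun i => by
  rw [Derivation.leibniz_pow, ← Nat.cast_smul_eq_nsmul k p, CharP.cast_eq_zero k p, zero_smul]

/-- The exponent attached to a `p`-digit vector. -/
noncomputable def expo (e : Fin d → Fin p) : Fin d →₀ ℕ :=
  Finsupp.equivFunOnFinite.symm fun i => (e i : ℕ)

@[simp] theorem expo_apply (e : Fin d → Fin p) (i : Fin d) : expo p e i = e i := rfl

theorem eq_of_dvd {e e' : Fin d → Fin p} {n : Fin d →₀ ℕ} (he : expo p e ≤ n) (he' : expo p e' ≤ n)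
    (h : ∀ i, p ∣ (n - expo p e) i) (h' : ∀ i, p ∣ (n - expo p e') i) : e = e' := by
  funext i
  obtain ⟨a, ha⟩ := h i
  obtain ⟨b, hb⟩ := h' i
  have h1 : (e i : ℕ) ≤ n i := he i
  have h2 : (e' i : ℕ) ≤ n i := he' i
  simp only [Finsupp.tsub_apply, expo_apply] at ha hb
  have e1 : n i % p = e i := by
    rw [show n i = e i + p * a by omega, Nat.add_mul_mod_self_left, Nat.mod_eq_of_lt (e i).isLt]
  have e2 : n i % p = e' i := by
    rw [show n i = e' i + p * b by omega, Nat.add_mul_mod_self_left, Nat.mod_eq_of_lt (e' i).isLt]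
  exact Fin.ext (e1.symm.trans e2)

theorem exists_decomp [Fact p.Prime] (f : MvPowerSeries (Fin d) k) :
    ∃ g : (Fin d → Fin p) → MvPowerSeries (Fin d) k, (∀ e, g e ∈ cst k d) ∧
      f = ∑ e, monomial (expo p e) (1 : k) * g e := by
  classical
  let g : (Fin d → Fin p) → MvPowerSeries (Fin d) k := fun e m =>
    if ∀ i, p ∣ m i then coeff (m + expo p e) f else 0
  have hg : ∀ e m, coeff m (g e) = if ∀ i, p ∣ m i then coeff (m + expo p e) f else 0 :=
    fun e m => rfl
  refine ⟨g, fun e => (mem_cst_iff p).2 fun m hm => ?_, ?_⟩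
  · by_contra hcon
    exact hm (by rw [hg, if_neg hcon])
  · ext n
    have hp : 0 < p := (Fact.out : p.Prime).pos
    let e₀ : Fin d → Fin p := fun i => ⟨n i % p, Nat.mod_lt _ hp⟩
    have he₀ : expo p e₀ ≤ n := fun i => Nat.mod_le _ _
    have hd₀ : ∀ i, p ∣ (n - expo p e₀) i := fun i => by
      simpa [e₀] using Nat.dvd_sub_mod (n := p) (n i)
    rw [map_sum, Finset.sum_eq_single e₀ _ (fun h => absurd (Finset.mem_univ _) h)]
    · rw [coeff_monomial_mul, if_pos he₀, one_mul, hg, if_pos hd₀, tsub_add_cancel_of_le he₀]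
    · intro e _ hne
      rw [coeff_monomial_mul]
      split_ifs with hle
      · rw [one_mul, hg, if_neg fun hd => hne (eq_of_dvd p hle he₀ hd hd₀)]
      · rfl

theorem eq_zero_of_sum_eq_zero (g : (Fin d → Fin p) → MvPowerSeries (Fin d) k)
    (hg : ∀ e, g e ∈ cst k d) (h : ∑ e, monomial (expo p e) (1 : k) * g e = 0) (e₀ : Fin d → Fin p) :
    g e₀ = 0 := by
  classical
  ext m
  rw [map_zero]
  by_contra hm
  have hdiv := (mem_cst_iff p).1 (hg e₀) m hm
  have := congrArg (coeff (expo p e₀ + m)) h
  rw [map_sum, map_zero, Finset.sum_eq_single e₀ _ (fun h => absurd (Finset.mem_univ _) h)] at this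
  · rw [coeff_monomial_mul, if_pos le_self_add, one_mul, add_tsub_cancel_left] at this
    exact hm this
  · intro e _ hne
    rw [coeff_monomial_mul]
    split_ifs with hle
    · rw [one_mul]
      by_contra hc
      refine hne (eq_of_dvd p hle le_self_add ((mem_cst_iff p).1 (hg e) _ hc) fun i => ?_)
      rw [add_tsub_cancel_left]
      exact hdiv i
    · rfl

end Groth.Agent.OmegaHat14
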