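import Mathlib
import Groth.Agent.OmegaHat14.Constants
import Groth.Agent.OmegaHat14.CharP
import Groth.Agent.PBasis12.Field

/-!
Absolute differentials of finite extensions of `Frac k[[T]]` for an F-finite field `k`.
-/

set_option autoImplicit false

open MvPowerSeries

namespace Groth.Agent.OmegaHat14

universe u

/-- A copy of a field, used as the source of Frobenius. -/
def FCopy (K : Type u) : Type u := K

noncomputable instance (K : Type u) [Field K] : Field (FCopy K) := inferInstanceAs (Field K)

theorem smul_eq_zero_of_charP {L M : Type u} [Field L] (p : ℕ) [CharP L p] [AddCommGroup M] [Module L M]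
    (x : M) : p • x = 0 := by
  rw [← Nat.cast_smul_eq_nsmul L, CharP.cast_eq_zero L p, zero_smul]

/-- If `L ⧸ L^p` is finite of degree at most `p ^ r` then `Ω[L⁄ℤ]` has rank at most `r`. -/
theorem pow_finrank_kaehlerInt_le {F L : Type u} [Field F] [Field L] [Algebra F L] [FiniteDimensional F L]
    (p : ℕ) [Fact p.Prime] [CharP L p] (hpow : ∀ y : L, y ^ p ∈ Set.range (algebraMap F L))
    (hrange : ∀ x : F, ∃ y : L, y ^ p = algebraMap F L x) [iZ : Algebra ℤ L] :
    Module.Finite L (KaehlerDifferential ℤ L) ∧
      p ^ Module.finrank L (KaehlerDifferential ℤ L) ≤ Module.finrank F L := by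
  classical
  obtain rfl : iZ = Ring.toIntAlgebra L := Subsingleton.elim _ _
  have : Algebra.EssFiniteType F L := inferInstance
  let D : Derivation F L (KaehlerDifferential ℤ L) := Derivation.mk'
    { toFun := KaehlerDifferential.D ℤ L
      map_add' := map_add _
      map_smul' := fun c x => by
        obtain ⟨y, hy⟩ := hrange c
        rw [RingHom.id_apply, Algebra.smul_def, Derivation.leibniz, algebraMap_smul, ← hy,
          Derivation.leibniz_pow, smul_eq_zero_of_charP (L := L) p, smul_zero, add_zero] }
    (KaehlerDifferential.D ℤ L).leibniz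
  have hsurj : Function.Surjective D.liftKaehlerDifferential := by
    rw [← LinearMap.range_eq_top, eq_top_iff, ← KaehlerDifferential.span_range_derivation, Submodule.span_le]
    rintro _ ⟨x, rfl⟩
    exact ⟨KaehlerDifferential.D F L x, D.liftKaehlerDifferential_comp_D x⟩
  refine ⟨Module.Finite.of_surjective _ hsurj, ?_⟩
  have hr : Module.finrank L (KaehlerDifferential ℤ L) ≤ Module.finrank L (KaehlerDifferential F L) :=
    LinearMap.finrank_le_finrank_of_surjective hsurj
  refine le_trans (Nat.pow_le_pow_right (Fact.out : p.Prime).pos hr) ?_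
  obtain ⟨κ, a, -, hspan, hli⟩ := exists_linearIndependent' L (KaehlerDifferential.D F L)
  rw [KaehlerDifferential.span_range_derivation] at hspan
  let b := Module.Basis.mk hli hspan.ge
  have : Fintype κ := FiniteDimensional.fintypeBasisIndex b
  rw [Module.finrank_eq_card_basis b]
  have hind : EGA41.IsPIndependent p F (fun i : κ => a i) := (PBasis12.isPIndependent_iff_D _).2 hli
  rw [PBasis12.isPIndependent_iff_li (algebraMap F L).injective hpow] at hind
  let f : (κ → Fin p) → {e : κ →₀ ℕ // ∀ i, e i < p} := fun e =>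
    ⟨Finsupp.equivFunOnFinite.symm fun i => (e i : ℕ), fun i => (e i).isLt⟩
  have hf : Function.Injective f := fun e e' h => funext fun i => Fin.ext <| by
    simpa [f] using DFunLike.congr_fun (congrArg Subtype.val h) i
  have h2 := (hind.comp f hf).fintype_card_le_finrank
  simpa using h2

theorem exists_frob_decomp {k : Type u} [Field k] {d : ℕ} (p : ℕ) [Fact p.Prime] [CharP k p] {ι : Type u}
    [Fintype ι] (b : ι → k) (hb : ∀ c : k, ∃ a : ι → k, c = ∑ j, a j ^ p * b j)
    (g : MvPowerSeries (Fin d) k) (hg : g ∈ cst k d) :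
    ∃ h : ι → MvPowerSeries (Fin d) k, g = ∑ j, C (b j) * h j ^ p := by
  classical
  have hp : p ≠ 0 := (Fact.out : p.Prime).ne_zero
  choose a ha using hb
  let h : ι → MvPowerSeries (Fin d) k := fun j m => a (coeff (p • m) g) j
  have hh : ∀ j m, coeff m (h j) = a (coeff (p • m) g) j := fun j m => rfl
  refine ⟨h, ?_⟩
  ext n
  rw [map_sum]
  simp only [coeff_C_mul, ← map_frobenius_expand p hp, coeff_map]
  by_cases hn : ∀ i, p ∣ n i
  · obtain ⟨m, rfl⟩ : ∃ m : Fin d →₀ ℕ, n = p • m := by
      refine ⟨Finsupp.equivFunOnFinite.symm fun i => n i / p, Finsupp.ext fun i => ?_⟩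
      simp [Nat.mul_div_cancel' (hn i)]
    simp only [coeff_expand_smul, hh, frobenius_def]
    conv_lhs => rw [ha (coeff (p • m) g)]
    exact Finset.sum_congr rfl fun j _ => mul_comm _ _
  · have h0 : coeff n g = 0 := by
      by_contra hne
      exact hn ((mem_cst_iff p).1 hg n hne)
    obtain ⟨i, hi⟩ := not_forall.1 hn
    rw [h0]
    refine (Finset.sum_eq_zero fun j _ => ?_).symm
    rw [coeff_expand_of_not_dvd p hp _ hi, map_zero, mul_zero]

/-- The rank of `Ω[L⁄ℤ]` for a finite extension `L` of `Frac k[[T₁, …, T_d]]`. -/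
theorem pow_finrank_kaehlerInt_le_of_powerSeries (k : Type u) [Field k] (p : ℕ) [Fact p.Prime] [CharP k p]
    {ι : Type u} [Fintype ι] (b : ι → k) (hb : ∀ c : k, ∃ a : ι → k, c = ∑ j, a j ^ p * b j) (d : ℕ)
    (L : Type u) [Field L] [Algebra (FractionRing (MvPowerSeries (Fin d) k)) L]
    [Module.Finite (FractionRing (MvPowerSeries (Fin d) k)) L] [Algebra ℤ L] :
    Module.Finite L (KaehlerDifferential ℤ L) ∧
      p ^ Module.finrank L (KaehlerDifferential ℤ L) ≤ p ^ d * Fintype.card ι := by
  classical
  let S := MvPowerSeries (Fin d) k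
  let K := FractionRing S
  have : IsDomain S := NoZeroDivisors.to_isDomain _
  have hSinj := IsFractionRing.injective S K
  have : CharP S p := charP_of_injective_algebraMap (FaithfulSMul.algebraMap_injective k S) p
  have : CharP K p := charP_of_injective_algebraMap hSinj p
  have : CharP L p := charP_of_injective_algebraMap (algebraMap K L).injective p
  letI : Algebra (FCopy K) K := RingHom.toAlgebra (frobenius K p : FCopy K →+* K)
  letI : Algebra (FCopy L) L := RingHom.toAlgebra (frobenius L p : FCopy L →+* L)
  letI : Algebra (FCopy K) (FCopy L) := RingHom.toAlgebra (algebraMap K L : FCopy K →+* FCopy L)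
  letI : Algebra (FCopy K) L :=
    RingHom.toAlgebra ((algebraMap K L).comp (algebraMap (FCopy K) K))
  have : IsScalarTower (FCopy K) K L := IsScalarTower.of_algebraMap_eq fun _ => rfl
  have : IsScalarTower (FCopy K) (FCopy L) L := IsScalarTower.of_algebraMap_eq fun x => by
    change algebraMap K L ((x : K) ^ p) = (algebraMap K L (x : K)) ^ p
    exact map_pow _ _ _
  let toF : K → FCopy K := fun x => x
  -- spanning family of `K` over its `p`-th powers
  let v : (Fin d → Fin p) × ι → K := fun q => algebraMap S K (monomial (expo p q.1) 1 * C (b q.2))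
  let V := Submodule.span (FCopy K) (Set.range v)
  have hVS : ∀ s : S, algebraMap S K s ∈ V := by
    intro s
    obtain ⟨g, hg, hs⟩ := exists_decomp p s
    rw [hs, map_sum]
    refine sum_mem fun e _ => ?_
    obtain ⟨h, hh⟩ := exists_frob_decomp p b hb (g e) (hg e)
    rw [hh, Finset.mul_sum, map_sum]
    refine sum_mem fun j _ => ?_
    rw [show algebraMap S K (monomial (expo p e) 1 * (C (b j) * h j ^ p)) =
      toF (algebraMap S K (h j)) • v (e, j) by
        rw [Algebra.smul_def]
        change _ = (algebraMap S K (h j)) ^ p * _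
        rw [← map_pow, ← map_mul]; congr 1; ring]
    exact V.smul_mem _ (Submodule.subset_span ⟨_, rfl⟩)
  have hV : V = ⊤ := eq_top_iff.2 fun x _ => by
    obtain ⟨a, c, hc, rfl⟩ := IsFractionRing.div_surjective (A := S) x
    obtain ⟨n, hn⟩ : ∃ n, p = n + 1 := ⟨p - 1, (Nat.sub_add_cancel (Fact.out : p.Prime).one_le).symm⟩
    have hc0 : algebraMap S K c ≠ 0 := IsFractionRing.to_map_ne_zero_of_mem_nonZeroDivisors hc
    rw [show algebraMap S K a / algebraMap S K c =
      toF (algebraMap S K c)⁻¹ • algebraMap S K (a * c ^ n) by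
        rw [Algebra.smul_def]
        change _ = ((algebraMap S K c)⁻¹) ^ p * _
        rw [map_mul, map_pow, hn, inv_pow, pow_succ, mul_inv, div_eq_mul_inv]
        calc algebraMap S K a * (algebraMap S K c)⁻¹
            = ((algebraMap S K c ^ n)⁻¹ * algebraMap S K c ^ n) * ((algebraMap S K c)⁻¹ * algebraMap S K a) := by
              rw [inv_mul_cancel₀ (pow_ne_zero n hc0), one_mul, mul_comm]
          _ = _ := by ring]
    exact V.smul_mem _ (hVS _)
  have : Module.Finite (FCopy K) K := Module.finite_def.2 (hV ▸ Submodule.fg_span (Set.finite_range v))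
  have hK : Module.finrank (FCopy K) K ≤ p ^ d * Fintype.card ι := by
    have h := finrank_range_le_card (R := FCopy K) v
    rw [Set.finrank, show Submodule.span (FCopy K) (Set.range v) = ⊤ from hV, finrank_top] at h
    simpa using h
  have : Module.Finite (FCopy K) L := Module.Finite.trans K L
  have : Module.Finite (FCopy L) L := Module.Finite.of_restrictScalars_finite (FCopy K) (FCopy L) L
  have hKL : Module.finrank (FCopy K) (FCopy L) = Module.finrank K L :=
    Algebra.finrank_eq_of_equiv_equiv (RingEquiv.refl K) (RingEquiv.refl L) rfl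
  have hdeg : Module.finrank (FCopy L) L = Module.finrank (FCopy K) K := by
    have h1 := Module.finrank_mul_finrank (FCopy K) (FCopy L) L
    rw [hKL, ← Module.finrank_mul_finrank (FCopy K) K L, mul_comm (Module.finrank (FCopy K) K)] at h1
    exact Nat.eq_of_mul_eq_mul_left Module.finrank_pos h1
  obtain ⟨hfin, hle⟩ := pow_finrank_kaehlerInt_le (F := FCopy L) p (fun y => ⟨(y : L), rfl⟩)
    (fun x => ⟨(x : L), rfl⟩)
  exact ⟨hfin, hle.trans (hdeg.le.trans hK)⟩

/-- `[k : k^p] ≤ p ^ dim Ω`: a spanning family of differentials controls the coordinates. -/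
theorem exists_frob_basis (k k₁ : Type u) [Field k] [Field k₁] [Algebra k₁ k] [FiniteDimensional k₁ k]
    (p : ℕ) [Fact p.Prime] [CharP k p] (hpow : ∀ y : k, y ^ p ∈ Set.range (algebraMap k₁ k)) :
    Module.finrank k₁ k ≤ p ^ Module.finrank k (KaehlerDifferential k₁ k) := by
  classical
  obtain ⟨κ, a, -, hspan, hli⟩ := exists_linearIndependent' k (KaehlerDifferential.D k₁ k)
  rw [KaehlerDifferential.span_range_derivation] at hspan
  let b := Module.Basis.mk hli hspan.ge
  have : Fintype κ := FiniteDimensional.fintypeBasisIndex b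
  rw [Module.finrank_eq_card_basis b]
  exact finrank_le_pow_of_span p hpow a hspan

end Groth.Agent.OmegaHat14
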