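import Mathlib
import Groth.Prelude.Def_Found
import Groth.Agent.OmegaHat14.FrobDeg
import Groth.Agent.EGA4H10.RegAway

/-!
Upper bound on the fibre of the differentials at a geometrically regular point in characteristic `p`.
-/

set_option autoImplicit false

open scoped TensorProduct

namespace Groth.Agent.OmegaHat14

universe u

theorem regular_atPrime_of_geomRegular {k k' A : Type u} [Field k] [Field k'] [Algebra k k']
    [Module.Finite k k'] [CommRing A] [Algebra k A] (P : Ideal A) [P.IsPrime]
    (h : CAlg.IsGeometricallyRegular k (Localization.AtPrime P)) (Q : Ideal (A ⊗[k] k')) [Q.IsPrime]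
    (hQ : Q.comap (algebraMap A (A ⊗[k] k')) = P) : IsRegularLocalRing (Localization.AtPrime Q) := by
  have := h k' inferInstance
  have : IsRegularRing ((A ⊗[k] k') ⊗[A] Localization.AtPrime P) :=
    IsRegularRing.of_ringEquiv
      (((Algebra.TensorProduct.comm A (A ⊗[k] k') (Localization.AtPrime P)).toRingEquiv.trans <|
        (Algebra.TensorProduct.cancelBaseChange k A A (Localization.AtPrime P) k').toRingEquiv.trans
          (Algebra.TensorProduct.comm k (Localization.AtPrime P) k').toRingEquiv).symm)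
  refine EGA4H10.regular_atPrime_of_isLocalization (Algebra.algebraMapSubmonoid (A ⊗[k] k') P.primeCompl)
    ((A ⊗[k] k') ⊗[A] Localization.AtPrime P) Q (Set.disjoint_left.2 ?_)
  rintro _ ⟨s, hs, rfl⟩ hsQ
  exact hs (hQ ▸ hsQ : s ∈ P)

theorem exists_prime_over {k k' A : Type u} [Field k] [Field k'] [Algebra k k'] [Module.Finite k k']
    [CommRing A] [Algebra k A] (P : Ideal A) [P.IsPrime] :
    ∃ Q : Ideal (A ⊗[k] k'), Q.IsPrime ∧ Q.comap (algebraMap A (A ⊗[k] k')) = P ∧ Q.height ≤ P.height := by
  have : Module.Finite A (A ⊗[k] k') := Module.Finite.base_change k A k'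
  have : Algebra.IsIntegral A (A ⊗[k] k') := Algebra.IsIntegral.of_finite A _
  have hinj : Function.Injective (algebraMap A (A ⊗[k] k')) :=
    Algebra.TensorProduct.includeLeft_injective (S := A) (algebraMap k k').injective
  obtain ⟨Q, -, hQ, hQP⟩ := Ideal.exists_ideal_over_prime_of_isIntegral (S := A ⊗[k] k') P ⊥
    (by rw [← RingHom.ker_eq_comap_bot, (RingHom.injective_iff_ker_eq_bot _).mp hinj]; exact bot_le)
  refine ⟨Q, hQ, hQP, ?_⟩
  have h := Order.height_le_height_apply_of_strictMono (PrimeSpectrum.comap (algebraMap A (A ⊗[k] k')))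
    (fun _ _ h => Ideal.IsIntegral.comap_lt_comap h) (⟨Q, hQ⟩ : PrimeSpectrum (A ⊗[k] k'))
  rw [(⟨Q, hQ⟩ : PrimeSpectrum (A ⊗[k] k')).height_eq_orderHeight,
    (⟨P, inferInstance⟩ : PrimeSpectrum A).height_eq_orderHeight]
  exact h.trans_eq (congrArg Order.height (PrimeSpectrum.ext hQP))

theorem finrank_kaehlerInt_fibre_le {A' : Type u} [CommRing A'] [IsNoetherianRing A'] (Q : Ideal A')
    [Q.IsPrime] [IsRegularLocalRing (Localization.AtPrime Q)] [iA : Algebra ℤ A']
    [Module.Finite Q.ResidueField (KaehlerDifferential ℤ Q.ResidueField)] :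
    Module.Finite Q.ResidueField (Q.ResidueField ⊗[A'] KaehlerDifferential ℤ A') ∧
      ∃ h : ℕ, (h : ℕ∞) ≤ Q.height ∧
        Module.finrank Q.ResidueField (Q.ResidueField ⊗[A'] KaehlerDifferential ℤ A') ≤
          h + Module.finrank Q.ResidueField (KaehlerDifferential ℤ Q.ResidueField) := by
  classical
  obtain rfl : iA = Ring.toIntAlgebra A' := Subsingleton.elim _ _
  let L := Q.ResidueField
  let V := L ⊗[A'] KaehlerDifferential ℤ A'
  let δ : Derivation ℤ A' V := (TensorProduct.mk A' L (KaehlerDifferential ℤ A') 1).compDer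
    (KaehlerDifferential.D ℤ A')
  obtain ⟨G, hG, hcard, hgen⟩ := EGA4H10.exists_gens Q
  let W : Submodule L V := Submodule.span L (δ '' (G : Set A'))
  have hkill : ∀ x ∈ Q, ∀ v : V, x • v = 0 := fun x hx v => by
    rw [← algebraMap_smul L x v, Ideal.algebraMap_residueField_eq_zero.2 hx, zero_smul]
  have hW : ∀ x ∈ Q, δ x ∈ W := by
    intro x hx
    obtain ⟨u, hu, hux⟩ := hgen x hx
    have h2 : ∀ z ∈ Ideal.span (G : Set A'), δ z ∈ W := by
      intro z hz
      induction hz using Submodule.span_induction with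
      | mem z hz => exact Submodule.subset_span ⟨z, hz, rfl⟩
      | zero => rw [map_zero]; exact zero_mem _
      | add a b _ _ ha hb => rw [map_add]; exact add_mem ha hb
      | smul c a ha' ha =>
        rw [smul_eq_mul, Derivation.leibniz, hkill a (Ideal.span_le.2 hG ha'), add_zero]
        exact W.smul_of_tower_mem c ha
    have h3 := h2 _ hux
    rw [Derivation.leibniz, hkill x hx, add_zero, ← algebraMap_smul L u] at h3
    exact (W.smul_mem_iff fun h0 => hu (Ideal.algebraMap_residueField_eq_zero.1 h0)).1 h3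
  -- the derivation to the quotient descends
  let π : V →ₗ[A'] V ⧸ W := W.mkQ.restrictScalars A'
  let δ₂ : Derivation ℤ A' (V ⧸ W) := π.compDer δ
  have hδ₂ : ∀ x ∈ Q, δ₂ x = 0 := fun x hx => (Submodule.Quotient.mk_eq_zero W).2 (hW x hx)
  let f : A' ⧸ Q → V ⧸ W := fun x => δ₂ (Function.surjInv Ideal.Quotient.mk_surjective x)
  have hf : ∀ x, f (Ideal.Quotient.mk Q x) = δ₂ x := fun x => by
    rw [← sub_eq_zero, ← map_sub]
    exact hδ₂ _ (Ideal.Quotient.eq.1 (Function.surjInv_eq Ideal.Quotient.mk_surjective _))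
  let δ₃ : Derivation ℤ (A' ⧸ Q) (V ⧸ W) := Derivation.mk'
    (AddMonoidHom.mk' f (fun a b => by
      obtain ⟨a, rfl⟩ := Ideal.Quotient.mk_surjective a
      obtain ⟨b, rfl⟩ := Ideal.Quotient.mk_surjective b
      rw [← map_add, hf, hf, hf, map_add])).toIntLinearMap
    fun a b => by
      obtain ⟨a, rfl⟩ := Ideal.Quotient.mk_surjective a
      obtain ⟨b, rfl⟩ := Ideal.Quotient.mk_surjective b
      change f _ = _ • f _ + _ • f _
      rw [← map_mul, hf, hf, hf, Derivation.leibniz, ← Ideal.Quotient.algebraMap_eq, algebraMap_smul,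
        algebraMap_smul]
  have : Algebra.FormallyEtale (A' ⧸ Q) L :=
    Algebra.FormallyEtale.of_isLocalization (nonZeroDivisors (A' ⧸ Q))
  let e := KaehlerDifferential.tensorKaehlerEquivOfFormallyEtale ℤ (A' ⧸ Q) L
  let ψ : KaehlerDifferential ℤ L →ₗ[L] V ⧸ W :=
    LinearMap.liftBaseChange L δ₃.liftKaehlerDifferential ∘ₗ e.symm.toLinearMap
  have hψ : ∀ x, ψ (KaehlerDifferential.D ℤ L (algebraMap (A' ⧸ Q) L (Ideal.Quotient.mk Q x))) = δ₂ x :=
    fun x => by
      change LinearMap.liftBaseChange L _ (e.symm _) = _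
      rw [KaehlerDifferential.tensorKaehlerEquivOfFormallyEtale_symm_D_algebraMap,
        LinearMap.liftBaseChange_tmul, one_smul, Derivation.liftKaehlerDifferential_comp_D]
      exact hf x
  have hspan : ∀ v : V, v ∈ Submodule.span L (Set.range δ) := by
    intro v
    induction v using TensorProduct.induction_on with
    | zero => exact zero_mem _
    | add a b ha hb => exact add_mem ha hb
    | tmul r ω =>
      rw [show r ⊗ₜ[A'] ω = r • ((1 : L) ⊗ₜ[A'] ω) by rw [TensorProduct.smul_tmul', smul_eq_mul, mul_one]]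
      refine Submodule.smul_mem _ _ ?_
      have hω : ω ∈ Submodule.span A' (Set.range (KaehlerDifferential.D ℤ A')) := by
        rw [KaehlerDifferential.span_range_derivation]; trivial
      have := Submodule.apply_mem_span_image_of_mem_span (TensorProduct.mk A' L _ 1) hω
      rw [← Set.range_comp] at this
      exact Submodule.span_le_restrictScalars A' L _ this
  have hsurj : Function.Surjective ψ := by
    intro z
    obtain ⟨v, rfl⟩ := W.mkQ_surjective z
    have h := Submodule.apply_mem_span_image_of_mem_span W.mkQ (hspan v)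
    refine (Submodule.span_le.2 ?_ h : W.mkQ v ∈ LinearMap.range ψ)
    rintro _ ⟨_, ⟨x, rfl⟩, rfl⟩
    exact ⟨_, hψ x⟩
  have : Module.Finite L W := Module.Finite.span_of_finite L (G.finite_toSet.image δ)
  have : Module.Finite L (V ⧸ W) := Module.Finite.of_surjective ψ hsurj
  have hV : Module.Finite L V := Module.Finite.of_submodule_quotient W
  refine ⟨hV, G.card, ?_, ?_⟩
  · have h2 := EGA4H10.height_eq_spanFinrank Q
    have h3 : (((IsLocalRing.maximalIdeal (Localization.AtPrime Q)).spanFinrank : ℕ) : ℕ∞) = Q.height := by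
      exact_mod_cast h2
    rw [← h3]
    exact_mod_cast hcard
  · rw [← Submodule.finrank_quotient_add_finrank W, add_comm]
    refine add_le_add ?_ (LinearMap.finrank_le_finrank_of_surjective hsurj)
    have h1 := finrank_span_finset_le_card (R := L) (G.image δ)
    rw [Finset.coe_image] at h1
    exact h1.trans Finset.card_image_le

set_option maxHeartbeats 400000 in
/-- The fibre bound. -/
theorem fibre_le_charP (k k' : Type u) [Field k] [Field k'] [Algebra k k'] [Module.Finite k k']
    (p : ℕ) [Fact p.Prime] [CharP k p] (σ : k' ≃+* k) (hσ : ∀ a : k, σ (algebraMap k k' a) = a ^ p)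
    (A : Type u) [CommRing A] [IsNoetherianRing A] [Algebra k A] (P : Ideal A) [P.IsPrime]
    (hP : CAlg.IsGeometricallyRegular k (Localization.AtPrime P)) {d : ℕ}
    [Algebra (MvPowerSeries (Fin d) k) (A ⧸ P)] [Module.Finite (MvPowerSeries (Fin d) k) (A ⧸ P)]
    (hinj : Function.Injective (algebraMap (MvPowerSeries (Fin d) k) (A ⧸ P)))
    {M : Type u} [AddCommGroup M] [Module A M] [Module k M] [IsScalarTower k A M] [Module.Finite A M]
    (δ : Derivation k A M)
    (hδ : Submodule.span P.ResidueField (Set.range fun x => (1 : P.ResidueField) ⊗ₜ[A] δ x) = ⊤) :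
    ∃ h : ℕ, (h : ℕ∞) ≤ P.height ∧ Module.finrank P.ResidueField (P.ResidueField ⊗[A] M) ≤ h + d := by
  classical
  let A' := A ⊗[k] k'
  obtain ⟨Q, hQ, hQP, hQh⟩ := exists_prime_over (k := k) (k' := k') P
  have : IsRegularLocalRing (Localization.AtPrime Q) := regular_atPrime_of_geomRegular P hP Q hQP
  have : Module.Finite A A' := Module.Finite.base_change k A k'
  have : IsNoetherianRing A' := IsNoetherianRing.of_finite A A'
  have : Q.LiesOver P := ⟨hQP.symm⟩
  letI := Localization.AtPrime.algebraOfLiesOver P Q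
  have : Module.Finite P.ResidueField Q.ResidueField := inferInstance
  let L := Q.ResidueField
  -- finiteness over the power series field
  let S := MvPowerSeries (Fin d) k
  have : IsDomain S := NoZeroDivisors.to_isDomain _
  let κ := P.ResidueField
  have hSκ : Function.Injective ((algebraMap (A ⧸ P) κ).comp (algebraMap S (A ⧸ P))) :=
    (IsFractionRing.injective (A ⧸ P) κ).comp hinj
  let K := FractionRing S
  let ι : K →+* κ := IsFractionRing.lift hSκ
  letI : Algebra K κ := ι.toAlgebra
  have hι : ∀ s, ι (algebraMap S K s) = algebraMap (A ⧸ P) κ (algebraMap S (A ⧸ P) s) :=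
    fun s => IsFractionRing.lift_algebraMap hSκ s
  have : Module.Finite K κ := by
    obtain ⟨n, β, hβ⟩ := Module.Finite.exists_fin (R := S) (M := A ⧸ P)
    let W : Submodule K κ := Submodule.span K (Set.range fun l => algebraMap (A ⧸ P) κ (β l))
    have hW : ∀ y : A ⧸ P, algebraMap (A ⧸ P) κ y ∈ W := fun y => by
      obtain ⟨c, rfl⟩ := (Submodule.mem_span_range_iff_exists_fun S).1 (hβ ▸ Submodule.mem_top : y ∈ _)
      rw [map_sum]
      refine sum_mem fun l _ => ?_
      rw [Algebra.smul_def, map_mul, ← hι]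
      change ι _ * _ ∈ W
      rw [← RingHom.algebraMap_toAlgebra ι, ← Algebra.smul_def]
      exact W.smul_mem _ (Submodule.subset_span ⟨l, rfl⟩)
    have : Module.Finite K W := Module.Finite.span_of_finite K (Set.finite_range _)
    let W' : Subalgebra K κ := Algebra.adjoin K (Set.range (algebraMap (A ⧸ P) κ))
    have hle : W'.toSubmodule ≤ W := by
      rw [Algebra.adjoin_eq_span, Submodule.span_le]
      intro y hy
      obtain ⟨z, rfl⟩ : y ∈ MonoidHom.mrange (algebraMap (A ⧸ P) κ : A ⧸ P →* κ) :=
        Submonoid.closure_le.2 (fun y hy => hy) hy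
      exact hW z
    have : FiniteDimensional K W'.toSubmodule := Submodule.finiteDimensional_of_le hle
    have : FiniteDimensional K W' := ‹FiniteDimensional K W'.toSubmodule›
    have htop : W' = ⊤ := eq_top_iff.2 fun x _ => by
      obtain ⟨a, c, hc, rfl⟩ := IsFractionRing.div_surjective (A := A ⧸ P) x
      rw [div_eq_mul_inv]
      refine mul_mem (Algebra.subset_adjoin ⟨a, rfl⟩) ?_
      let c' : W' := ⟨algebraMap (A ⧸ P) κ c, Algebra.subset_adjoin ⟨c, rfl⟩⟩
      exact W'.inv_mem_of_algebraic (x := c')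
        ((isAlgebraic_algHom_iff W'.val Subtype.val_injective).2 (Algebra.IsAlgebraic.isAlgebraic c'))
    refine Module.finite_def.2 ?_
    rw [show (⊤ : Submodule K κ) = W'.toSubmodule by rw [htop, Algebra.top_toSubmodule]]
    exact Module.Finite.iff_fg.1 ‹FiniteDimensional K W'.toSubmodule›
  letI : Algebra K L := ((algebraMap κ L).comp (algebraMap K κ)).toAlgebra
  have : IsScalarTower K κ L := IsScalarTower.of_algebraMap_eq fun _ => rfl
  have : Module.Finite K L := Module.Finite.trans κ L
  -- the basis of `k` over its `p`-th powers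
  have : CharP k' p := charP_of_injective_algebraMap (algebraMap k k').injective p
  have hpow : ∀ y : k', y ^ p ∈ Set.range (algebraMap k k') := fun y =>
    ⟨σ y, σ.injective (by rw [hσ, map_pow])⟩
  let bk := Module.finBasis k k'
  let N := Module.finrank k k'
  obtain ⟨hfinΩ, hrank⟩ := pow_finrank_kaehlerInt_le_of_powerSeries k p
    (fun j : ULift.{u} (Fin N) => σ (bk j.down))
    (fun c => ⟨fun j => bk.repr (σ.symm c) j.down, by
      conv_lhs => rw [← σ.apply_symm_apply c, ← bk.sum_repr (σ.symm c)]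
      rw [map_sum]
      refine (Fintype.sum_equiv Equiv.ulift.symm _ _ fun j => ?_)
      rw [Algebra.smul_def, map_mul, hσ]
      rfl⟩) d L
  let e := Module.finrank k' (KaehlerDifferential k k')
  have hN : N ≤ p ^ e := exists_frob_basis k' k p hpow
  have hr : Module.finrank L (KaehlerDifferential ℤ L) ≤ d + e := by
    refine (Nat.pow_le_pow_iff_right (Fact.out : p.Prime).one_lt).1 (hrank.trans ?_)
    rw [pow_add]
    exact Nat.mul_le_mul_left _ (by simpa using hN)
  obtain ⟨hVfin, h, hh, hV⟩ := finrank_kaehlerInt_fibre_le (A' := A') Q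
  -- the comparison map
  let q : A' →ₐ[k] L := IsScalarTower.toAlgHom k A' L
  letI : Algebra k' L := (q.toRingHom.comp (Algebra.TensorProduct.includeRight : k' →ₐ[k] A').toRingHom).toAlgebra
  let U := L ⊗[A] M
  let W₂ := L ⊗[k'] KaehlerDifferential k k'
  have hA : ∀ (a : A) (z : U), a • z = q (a ⊗ₜ 1) • z := fun a z => (algebraMap_smul L a z).symm.trans <| by
    congr 1
  have hk' : ∀ (c : k') (z : W₂), c • z = q (1 ⊗ₜ c) • z := fun c z => (algebraMap_smul L c z).symm
  let D₁ : A' →ₗ[k] U := TensorProduct.lift (LinearMap.mk₂ k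
    (fun (a : A) (c : k') => q (1 ⊗ₜ c) • ((1 : L) ⊗ₜ[A] δ a))
    (fun a a' c => by simp only [map_add, TensorProduct.tmul_add, smul_add])
    (fun r a c => by simp only [Derivation.map_smul, TensorProduct.tmul_smul, smul_comm r])
    (fun a c c' => by simp only [TensorProduct.tmul_add, map_add, add_smul])
    (fun r a c => by simp only [TensorProduct.tmul_smul, map_smul, smul_assoc]))
  have hD₁ : ∀ a c, D₁ (a ⊗ₜ c) = q (1 ⊗ₜ c) • ((1 : L) ⊗ₜ[A] δ a) := fun a c => rfl
  have : IsScalarTower k k' L := IsScalarTower.of_algebraMap_eq fun r =>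
    (q.commutes r).symm.trans (congrArg q ((Algebra.TensorProduct.includeRight : k' →ₐ[k] A').commutes r).symm)
  have hWs : ∀ (r : k) (ω : KaehlerDifferential k k'), (1 : L) ⊗ₜ[k'] (r • ω) = r • ((1 : L) ⊗ₜ[k'] ω) :=
    fun r ω => by rw [← algebraMap_smul k' r ω, TensorProduct.tmul_smul, algebraMap_smul]
  let D₂ : A' →ₗ[k] W₂ := TensorProduct.lift (LinearMap.mk₂ k
    (fun (a : A) (c : k') => q (a ⊗ₜ 1) • ((1 : L) ⊗ₜ[k'] KaehlerDifferential.D k k' c))
    (fun a a' c => by simp only [TensorProduct.add_tmul, map_add, add_smul])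
    (fun r a c => by simp only [← TensorProduct.smul_tmul', map_smul, smul_assoc])
    (fun a c c' => by simp only [map_add, TensorProduct.tmul_add, smul_add])
    (fun r a c => by simp only [Derivation.map_smul, hWs, smul_comm r]))
  have hD₂ : ∀ a c, D₂ (a ⊗ₜ c) = q (a ⊗ₜ 1) • ((1 : L) ⊗ₜ[k'] KaehlerDifferential.D k k' c) := fun a c => rfl
  have hA' : ∀ (x : A') (z : U × W₂), x • z = q x • z := fun x z => (algebraMap_smul L x z).symm
  have hL : ∀ a a' : A, q ((a * a') ⊗ₜ 1) = q (a ⊗ₜ 1) * q (a' ⊗ₜ 1) := fun a a' => by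
    rw [← map_mul]
    exact congrArg q ((congrArg ((a * a') ⊗ₜ[k] ·) (one_mul (1 : k')).symm).trans
      (Algebra.TensorProduct.tmul_mul_tmul a a' (1 : k') 1).symm)
  have hR : ∀ c c' : k', q (1 ⊗ₜ (c * c')) = q (1 ⊗ₜ c) * q (1 ⊗ₜ c') := fun c c' => by
    rw [← map_mul]
    exact congrArg q ((congrArg (· ⊗ₜ[k] (c * c')) (one_mul (1 : A)).symm).trans
      (Algebra.TensorProduct.tmul_mul_tmul (1 : A) 1 c c').symm)
  have hq : ∀ (a : A) (c : k'), q (a ⊗ₜ c) = q (a ⊗ₜ 1) * q (1 ⊗ₜ c) := fun a c => by
    rw [← map_mul]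
    refine congrArg q (Eq.trans ?_ (Algebra.TensorProduct.tmul_mul_tmul a 1 (1 : k') c).symm)
    rw [mul_one, one_mul]
  have hL1 : q ((1 : A) ⊗ₜ (1 : k')) = 1 := map_one q
  have hR1 : q (1 : A') = 1 := map_one q
  let D : Derivation ℤ A' (U × W₂) := Derivation.mk'
    ((D₁.prod D₂).toAddMonoidHom.toIntLinearMap) fun x y => by
      change (D₁ (x * y), D₂ (x * y)) = x • (D₁ y, D₂ y) + y • (D₁ x, D₂ x)
      rw [hA', hA']
      induction x using TensorProduct.induction_on with
      | zero => simp
      | add x x' hx hx' =>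
        simp only [add_mul, map_add, add_smul, Prod.smul_mk, Prod.mk_add_mk, Prod.mk.injEq, smul_add] at hx hx' ⊢
        exact ⟨by rw [hx.1, hx'.1]; abel, by rw [hx.2, hx'.2]; abel⟩
      | tmul a c =>
        induction y using TensorProduct.induction_on with
        | zero => simp
        | add y y' hy hy' =>
          simp only [mul_add, map_add, add_smul, Prod.smul_mk, Prod.mk_add_mk, Prod.mk.injEq, smul_add] at hy hy' ⊢
          exact ⟨by rw [hy.1, hy'.1]; abel, by rw [hy.2, hy'.2]; abel⟩
        | tmul a' c' =>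
          have hmul : (a ⊗ₜ[k] c : A') * (a' ⊗ₜ[k] c') = (a * a') ⊗ₜ[k] (c * c') :=
            Algebra.TensorProduct.tmul_mul_tmul ..
          simp only [hmul, hD₁, hD₂, Derivation.leibniz, TensorProduct.tmul_add, TensorProduct.tmul_smul,
            smul_add, Prod.smul_mk, Prod.mk_add_mk, Prod.mk.injEq, hA, hk', hR, hL, hq a c, hq a' c']
          constructor <;> module
  have : @IsScalarTower ℤ A' (U × W₂) Algebra.toSMul _ _ :=
    IsScalarTower.of_algebraMap_smul fun n z => by rw [eq_intCast]; exact Int.cast_smul_eq_zsmul A' n z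
  let Θ := LinearMap.liftBaseChange L D.liftKaehlerDifferential
  have hΘ : ∀ x, Θ (1 ⊗ₜ KaehlerDifferential.D ℤ A' x) = (D₁ x, D₂ x) := fun x => by
    simp only [Θ, LinearMap.liftBaseChange_tmul, one_smul, Derivation.liftKaehlerDifferential_comp_D]
    rfl
  have h1 : ∀ a : A, ((1 : L) ⊗ₜ[A] δ a, (0 : W₂)) ∈ LinearMap.range Θ := fun a => ⟨_, (hΘ (a ⊗ₜ 1)).trans <| by
    simp [hD₁, hD₂, ← Algebra.TensorProduct.one_def]⟩
  have h2 : ∀ c : k', ((0 : U), (1 : L) ⊗ₜ[k'] KaehlerDifferential.D k k' c) ∈ LinearMap.range Θ :=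
    fun c => ⟨_, (hΘ (1 ⊗ₜ c)).trans <| by simp [hD₁, hD₂, ← Algebra.TensorProduct.one_def]⟩
  have hU : ∀ z : U, (z, (0 : W₂)) ∈ LinearMap.range Θ := by
    suffices hh : (⊤ : Submodule L U) ≤ (LinearMap.range Θ).comap (LinearMap.inl L U W₂) from
      fun z => hh trivial
    let e' := TensorProduct.AlgebraTensorModule.cancelBaseChange A κ L L M
    intro z _
    obtain ⟨w, rfl⟩ := e'.surjective z
    induction w using TensorProduct.induction_on with
    | zero => simp
    | add a b ha hb => rw [map_add]; exact add_mem (ha trivial) (hb trivial)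
    | tmul r v =>
      have hv : v ∈ Submodule.span κ (Set.range fun x => (1 : κ) ⊗ₜ[A] δ x) := hδ ▸ Submodule.mem_top
      induction hv using Submodule.span_induction with
      | mem v hv =>
        obtain ⟨x, rfl⟩ := hv
        rw [TensorProduct.AlgebraTensorModule.cancelBaseChange_tmul, one_smul,
          show r ⊗ₜ[A] δ x = r • ((1 : L) ⊗ₜ[A] δ x) by rw [TensorProduct.smul_tmul', smul_eq_mul, mul_one]]
        exact Submodule.smul_mem _ r (h1 x)
      | zero => simp
      | add a b _ _ ha hb => rw [TensorProduct.tmul_add, map_add]; exact add_mem (ha trivial) (hb trivial)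
      | smul c a _ ha =>
        rw [TensorProduct.tmul_smul, ← algebraMap_smul L c, map_smul]
        exact Submodule.smul_mem _ _ (ha trivial)
  have hW₂ : ∀ z : W₂, ((0 : U), z) ∈ LinearMap.range Θ := by
    let Sₛ : Submodule L W₂ := (LinearMap.range Θ).comap (LinearMap.inr L U W₂)
    suffices hh : ∀ z, z ∈ Sₛ from hh
    intro z
    induction z using TensorProduct.induction_on with
    | zero => exact zero_mem _
    | add a b ha hb => exact add_mem ha hb
    | tmul r ω =>
      rw [show r ⊗ₜ[k'] ω = r • ((1 : L) ⊗ₜ[k'] ω) by rw [TensorProduct.smul_tmul', smul_eq_mul, mul_one]]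
      refine Sₛ.smul_mem r ?_
      have hω : ω ∈ Submodule.span k' (Set.range (KaehlerDifferential.D k k')) := by
        rw [KaehlerDifferential.span_range_derivation]; trivial
      induction hω using Submodule.span_induction with
      | mem ω hω =>
        obtain ⟨x, rfl⟩ := hω
        exact h2 x
      | zero => rw [TensorProduct.tmul_zero]; exact zero_mem _
      | add a b _ _ ha hb => rw [TensorProduct.tmul_add]; exact add_mem ha hb
      | smul c a _ ha =>
        rw [TensorProduct.tmul_smul, ← algebraMap_smul L c]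
        exact Sₛ.smul_mem _ ha
  have hsurj : Function.Surjective Θ := fun z => by
    obtain ⟨a, ha⟩ := hU z.1
    obtain ⟨b, hb⟩ := hW₂ z.2
    exact ⟨a + b, by rw [map_add, ha, hb]; simp⟩
  have hfinU : Module.Finite L U := Module.Finite.of_surjective ((LinearMap.fst L U W₂).comp Θ)
    (Prod.fst_surjective.comp hsurj)
  have h4 : Module.finrank L U + e ≤ Module.finrank L (L ⊗[A'] KaehlerDifferential ℤ A') := by
    refine le_trans ?_ (LinearMap.finrank_le_finrank_of_surjective hsurj)
    rw [Module.finrank_prod, show Module.finrank L W₂ = e from Module.finrank_baseChange]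
  have h5 : Module.finrank L U = Module.finrank κ (κ ⊗[A] M) := by
    exact (TensorProduct.AlgebraTensorModule.cancelBaseChange A κ L L M).finrank_eq.symm.trans Module.finrank_baseChange
  refine ⟨h, hh.trans hQh, ?_⟩
  rw [← h5]
  have h6 := le_trans h4 hV
  have h7 : Module.finrank Q.ResidueField (KaehlerDifferential ℤ Q.ResidueField) ≤ d + e := hr
  omega

end Groth.Agent.OmegaHat14
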