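import Mathlib
import Groth.Agent.OmegaHat14.UpperP
import Groth.Agent.OmegaHat14.Etale

/-!
Upper bound on the fibre of the completed differentials at a geometrically regular point.
-/

set_option autoImplicit false

open IsLocalRing
open scoped TensorProduct

namespace Groth.Agent.OmegaHat14

universe u

/-- Noether normalisation of a quotient by a prime. -/
theorem exists_normalization (k A : Type u) [Field k] [CommRing A] [IsLocalRing A] [IsNoetherianRing A]
    [Algebra k A] [IsAdicComplete (maximalIdeal A) A] [Module.Finite k (ResidueField A)]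
    (q : Ideal A) [q.IsPrime] :
    IsLocalRing (A ⧸ q) ∧ ∃ (_ : IsLocalRing (A ⧸ q)), IsAdicComplete (maximalIdeal (A ⧸ q)) (A ⧸ q) ∧
      ∃ (d : ℕ) (w : MvPowerSeries (Fin d) k →ₐ[k] A ⧸ q), ringKrullDim (A ⧸ q) = d ∧
        Function.Injective w ∧ IsLocalHom w.toRingHom ∧ w.toRingHom.Finite := by
  let B := A ⧸ q
  have hloc : IsLocalRing B := .of_surjective' _ Ideal.Quotient.mk_surjective
  have hmax : (maximalIdeal A).map (algebraMap A B) = maximalIdeal B := by
    rw [Ideal.Quotient.algebraMap_eq]
    rcases Ideal.map_eq_top_or_isMaximal_of_surjective (Ideal.Quotient.mk q) Ideal.Quotient.mk_surjective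
      (maximalIdeal.isMaximal A) with h | h
    · exfalso
      have h2 := congrArg (Ideal.comap (Ideal.Quotient.mk q)) h
      rw [Ideal.comap_map_of_surjective _ Ideal.Quotient.mk_surjective, ← RingHom.ker_eq_comap_bot,
        Ideal.mk_ker, sup_eq_left.2 (le_maximalIdeal ‹q.IsPrime›.ne_top), Ideal.comap_top] at h2
      exact (maximalIdeal.isMaximal A).ne_top h2
    · exact IsLocalRing.eq_maximalIdeal h
  have hc : IsAdicComplete (maximalIdeal B) B := hmax ▸ SGA3a.isAdicComplete_map_of_finite B
  have : IsLocalHom (algebraMap A B) := .of_surjective _ Ideal.Quotient.mk_surjective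
  have : Module.Finite k (ResidueField B) := by
    refine Module.Finite.of_surjective
      ({ ResidueField.map (algebraMap A B) with
          commutes' := fun r => ?_ } : ResidueField A →ₐ[k] ResidueField B).toLinearMap ?_
    · change ResidueField.map (algebraMap A B) (residue A (algebraMap k A r)) = residue B (algebraMap k B r)
      rw [ResidueField.map_residue, ← IsScalarTower.algebraMap_apply k A B]
    · intro z
      obtain ⟨y, rfl⟩ := residue_surjective z
      obtain ⟨x, rfl⟩ := Ideal.Quotient.mk_surjective y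
      exact ⟨residue A x, ResidueField.map_residue _ x⟩
  obtain ⟨d, w, h⟩ := Cohen12.exists_finite_powerSeries (k₀ := k) (A := B)
  exact ⟨hloc, hloc, hc, d, w, h⟩

theorem exists_notMem_smul_of_charZero (k B : Type u) [Field k] [CharZero k] [CommRing B] [IsDomain B]
    [IsLocalRing B] [IsNoetherianRing B] [Algebra k B] [IsAdicComplete (maximalIdeal B) B] {d : ℕ}
    [Algebra (MvPowerSeries (Fin d) k) B] [IsScalarTower k (MvPowerSeries (Fin d) k) B]
    [IsLocalHom (algebraMap (MvPowerSeries (Fin d) k) B)] [Module.Finite (MvPowerSeries (Fin d) k) B]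
    (hinj : Function.Injective (algebraMap (MvPowerSeries (Fin d) k) B)) :
    ∃ a : B, a ≠ 0 ∧ ∀ w : AdicCompletion (maximalIdeal B) (KaehlerDifferential k B), a • w ∈
      Submodule.span B (Set.range fun i =>
        dhat k B (algebraMap (MvPowerSeries (Fin d) k) B (MvPowerSeries.X i))) := by
  let S := MvPowerSeries (Fin d) k
  let K := FractionRing S
  let L := FractionRing B
  have : IsDomain S := hinj.isDomain _
  have : FaithfulSMul S L := (faithfulSMul_iff_algebraMap_injective S L).2 <| by
    rw [IsScalarTower.algebraMap_eq S B L]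
    exact (IsFractionRing.injective B L).comp hinj
  letI : Algebra K L := FractionRing.liftAlgebra S L
  have : IsScalarTower S K L := FractionRing.isScalarTower_liftAlgebra S L
  have : Module.Finite K L := finite_fractionRing S B
  have : CharZero K := charZero_of_injective_algebraMap
    ((IsFractionRing.injective S K).comp (FaithfulSMul.algebraMap_injective k S) : Function.Injective
      ((algebraMap S K).comp (algebraMap k S)))
  have : Algebra.FormallyEtale S K := Algebra.FormallyEtale.of_isLocalization (nonZeroDivisors S)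
  have : Algebra.FormallyEtale K L := Algebra.FormallyEtale.of_isSeparable K L
  have : Algebra.FormallyEtale S L := Algebra.FormallyEtale.comp S K L
  have hbot : (⊥ : Ideal B).primeCompl = nonZeroDivisors B := by
    ext x
    simp [Ideal.primeCompl, mem_nonZeroDivisors_iff_ne_zero]
  have : IsLocalization.AtPrime L (⊥ : Ideal B) := by
    change IsLocalization (⊥ : Ideal B).primeCompl L
    rw [hbot]
    infer_instance
  have hun : Algebra.IsUnramifiedAt S (⊥ : Ideal B) :=
    Algebra.FormallyUnramified.of_equiv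
      ((IsLocalization.algEquiv (⊥ : Ideal B).primeCompl L (Localization.AtPrime (⊥ : Ideal B))).restrictScalars S)
  have ht : ∀ i, algebraMap S B (MvPowerSeries.X i) ∈ maximalIdeal B := fun i hu =>
    (CAlg6.mem_maximalIdeal_iff.2 (MvPowerSeries.constantCoeff_X i)) (isUnit_of_map_unit _ _ hu)
  obtain ⟨a, ha, haw⟩ := (isUnramifiedAt_iff k B ht (⊥ : Ideal B)).1 hun
  exact ⟨a, fun h => ha (h ▸ zero_mem _), haw⟩

set_option maxHeartbeats 1000000 in
/-- The fibre bound in characteristic zero. -/
theorem fibre_le_charZero (k A : Type u) [Field k] [CharZero k] [CommRing A] [IsLocalRing A]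
    [IsNoetherianRing A] [Algebra k A] [IsAdicComplete (maximalIdeal A) A]
    [Module.Finite k (ResidueField A)] (P : Ideal A) [P.IsPrime]
    [IsRegularLocalRing (Localization.AtPrime P)] [IsLocalRing (A ⧸ P)]
    [IsAdicComplete (maximalIdeal (A ⧸ P)) (A ⧸ P)] {d : ℕ}
    [Algebra (MvPowerSeries (Fin d) k) (A ⧸ P)] [IsScalarTower k (MvPowerSeries (Fin d) k) (A ⧸ P)]
    [IsLocalHom (algebraMap (MvPowerSeries (Fin d) k) (A ⧸ P))]
    [Module.Finite (MvPowerSeries (Fin d) k) (A ⧸ P)]
    (hinj : Function.Injective (algebraMap (MvPowerSeries (Fin d) k) (A ⧸ P))) :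
    ∃ h : ℕ, (h : ℕ∞) ≤ P.height ∧ Module.finrank P.ResidueField
      (P.ResidueField ⊗[A] AdicCompletion (maximalIdeal A) (KaehlerDifferential k A)) ≤ h + d := by
  classical
  obtain ⟨hspanκ, hfinΩ⟩ := span_residueField_dhat k A P
  let B := A ⧸ P
  let κ := P.ResidueField
  let Ωc := AdicCompletion (maximalIdeal A) (KaehlerDifferential k A)
  let V := κ ⊗[A] Ωc
  let δ : Derivation k A V := (TensorProduct.mk A κ Ωc 1).compDer (dhat k A)
  obtain ⟨a, ha, haw⟩ := exists_notMem_smul_of_charZero k B hinj
  choose t ht using fun i => Ideal.Quotient.mk_surjective (algebraMap (MvPowerSeries (Fin d) k) B (MvPowerSeries.X i))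
  obtain ⟨G, hG, hcard, hgen⟩ := EGA4H10.exists_gens P
  let W : Submodule κ V := Submodule.span κ (δ '' (G : Set A))
  have hkill : ∀ x ∈ P, ∀ v : V, x • v = 0 := fun x hx v => by
    rw [← algebraMap_smul κ x v, Ideal.algebraMap_residueField_eq_zero.2 hx, zero_smul]
  have hW : ∀ x ∈ P, δ x ∈ W := by
    intro x hx
    obtain ⟨u, hu, hux⟩ := hgen x hx
    have h2 : ∀ z ∈ Ideal.span (G : Set A), δ z ∈ W := by
      intro z hz
      induction hz using Submodule.span_induction with
      | mem z hz => exact Submodule.subset_span ⟨z, hz, rfl⟩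
      | zero => rw [map_zero]; exact zero_mem _
      | add a b _ _ ha hb => rw [map_add]; exact add_mem ha hb
      | smul c a ha' ha =>
        rw [smul_eq_mul, Derivation.leibniz, hkill a (Ideal.span_le.2 hG ha'), add_zero]
        exact W.smul_of_tower_mem c ha
    have h3 := h2 _ hux
    rw [Derivation.leibniz, hkill x hx, add_zero, ← algebraMap_smul κ u] at h3
    exact (W.smul_mem_iff fun h0 => hu (Ideal.algebraMap_residueField_eq_zero.1 h0)).1 h3
  let θ : B ⊗[A] Ωc →ₗ[B] V :=
    LinearMap.liftBaseChange B ((TensorProduct.mk A κ Ωc 1))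
  let W' : Submodule B (B ⊗[A] Ωc) := (W.restrictScalars B).comap θ
  let δ₂ : Derivation k A ((B ⊗[A] Ωc) ⧸ W') :=
    (W'.mkQ.restrictScalars A ∘ₗ TensorProduct.mk A B Ωc 1).compDer (dhat k A)
  have hθ : ∀ x, θ (1 ⊗ₜ dhat k A x) = δ x := fun x => by
    simp only [θ, LinearMap.liftBaseChange_tmul, one_smul]
    rfl
  have hδ₂ : ∀ x ∈ P, δ₂ x = 0 := fun x hx => (Submodule.Quotient.mk_eq_zero W').2 <| by
    change θ (1 ⊗ₜ dhat k A x) ∈ W
    rw [hθ]
    exact hW x hx
  let f : B → (B ⊗[A] Ωc) ⧸ W' := fun x => δ₂ (Function.surjInv Ideal.Quotient.mk_surjective x)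
  have hf : ∀ x, f (Ideal.Quotient.mk P x) = δ₂ x := fun x => by
    rw [← sub_eq_zero, ← map_sub]
    exact hδ₂ _ (Ideal.Quotient.eq.1 (Function.surjInv_eq Ideal.Quotient.mk_surjective _))
  let δ₃ : Derivation k B ((B ⊗[A] Ωc) ⧸ W') := Derivation.mk'
    { toFun := f
      map_add' := fun a b => by
        obtain ⟨a, rfl⟩ := Ideal.Quotient.mk_surjective a
        obtain ⟨b, rfl⟩ := Ideal.Quotient.mk_surjective b
        rw [← map_add, hf, hf, hf, map_add]
      map_smul' := fun r a => by
        obtain ⟨a, rfl⟩ := Ideal.Quotient.mk_surjective a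
        rw [RingHom.id_apply, show r • Ideal.Quotient.mk P a = Ideal.Quotient.mk P (r • a) from rfl, hf, hf,
          Derivation.map_smul] }
    fun a b => by
      obtain ⟨a, rfl⟩ := Ideal.Quotient.mk_surjective a
      obtain ⟨b, rfl⟩ := Ideal.Quotient.mk_surjective b
      change f _ = _ • f _ + _ • f _
      rw [← map_mul, hf, hf, hf, Derivation.leibniz, ← Ideal.Quotient.algebraMap_eq, algebraMap_smul,
        algebraMap_smul]
  obtain ⟨Ψ, hΨ⟩ := exists_extend k B ((B ⊗[A] Ωc) ⧸ W') δ₃.liftKaehlerDifferential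
  have hΨd : ∀ x, Ψ (dhat k B (Ideal.Quotient.mk P x)) = δ₂ x := fun x => by
    rw [dhat_apply, hΨ, Derivation.liftKaehlerDifferential_comp_D]
    exact hf x
  let U : Submodule κ V := Submodule.span κ ((G ∪ Finset.univ.image t).image δ : Finset V)
  have hWU : W ≤ U := Submodule.span_mono <| by
    rw [Finset.coe_image, Finset.coe_union]
    exact Set.image_mono Set.subset_union_left
  have htU : ∀ i, δ (t i) ∈ U := fun i => Submodule.subset_span (by simpa using ⟨t i, Or.inr ⟨i, rfl⟩, rfl⟩)
  have hall : ∀ x, δ x ∈ U := by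
    intro x
    obtain ⟨c, hc⟩ := (Submodule.mem_span_range_iff_exists_fun B).1 (haw (dhat k B (Ideal.Quotient.mk P x)))
    have h := congrArg Ψ hc
    rw [map_sum, map_smul, hΨd] at h
    simp only [map_smul, ← ht, hΨd] at h
    have h2 : a • ((1 : B) ⊗ₜ[A] dhat k A x) - ∑ i, c i • ((1 : B) ⊗ₜ[A] dhat k A (t i)) ∈ W' := by
      rw [← Submodule.Quotient.mk_eq_zero, ← Submodule.mkQ_apply, map_sub, map_sum]
      simp only [map_smul]
      exact sub_eq_zero.2 h.symm
    have h3 : θ (a • ((1 : B) ⊗ₜ[A] dhat k A x) - ∑ i, c i • ((1 : B) ⊗ₜ[A] dhat k A (t i))) ∈ W := h2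
    simp only [map_sub, map_sum, map_smul, hθ] at h3
    have h4 : a • δ x ∈ U := by
      have h5 := add_mem (hWU h3) (sum_mem (t := Finset.univ) fun i _ => U.smul_of_tower_mem (c i) (htU i))
      rwa [sub_add_cancel] at h5
    rw [← algebraMap_smul κ a] at h4
    exact (U.smul_mem_iff ((map_ne_zero_iff _ (IsFractionRing.injective B κ)).2 ha)).1 h4
  have hU : U = ⊤ := by
    rw [eq_top_iff, ← hspanκ, Submodule.span_le]
    rintro _ ⟨x, rfl⟩
    exact hall x
  refine ⟨G.card, ?_, ?_⟩
  · have h2 := EGA4H10.height_eq_spanFinrank P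
    have h3 : (((IsLocalRing.maximalIdeal (Localization.AtPrime P)).spanFinrank : ℕ) : ℕ∞) = P.height := by
      exact_mod_cast h2
    rw [← h3]
    exact_mod_cast hcard
  · have h1 := finrank_span_finset_le_card (R := κ) ((G ∪ Finset.univ.image t).image δ)
    rw [Set.finrank, show Submodule.span κ (((G ∪ Finset.univ.image t).image δ : Finset V) : Set V) = ⊤ from hU,
      finrank_top] at h1
    refine h1.trans (Finset.card_image_le.trans ((Finset.card_union_le _ _).trans ?_))
    exact Nat.add_le_add_left (Finset.card_image_le.trans (by simp)) _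

end Groth.Agent.OmegaHat14
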