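import Mathlib
import Groth.Agent.OmegaHat14.Upper
import Groth.Agent.CAlg6.CotFlat
import Groth.Agent.CAlg5.RegularHom

/-!
Freeness of the completed differentials at geometrically regular points.
-/

set_option autoImplicit false

open IsLocalRing
open scoped TensorProduct

namespace Groth.Agent.OmegaHat14

universe u

theorem exists_smul_mem_of_finrank_le {A M : Type u} [CommRing A] [AddCommGroup M] [Module A M]
    [Module.Finite A M] (P : Ideal A) [P.IsPrime] {n : ℕ}
    (h : Module.finrank P.ResidueField (P.ResidueField ⊗[A] M) ≤ n) :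
    ∃ u : Fin n → M, ∃ a ∉ P, ∀ x, a • x ∈ Submodule.span A (Set.range u) := by
  classical
  let κ := P.ResidueField
  let b : M → κ ⊗[A] M := fun x => 1 ⊗ₜ x
  have hb : Submodule.span κ (Set.range b) = ⊤ := by
    rw [eq_top_iff]
    rintro z -
    induction z using TensorProduct.induction_on with
    | zero => simp
    | add x y hx hy => exact add_mem hx hy
    | tmul r x =>
      rw [show r ⊗ₜ[A] x = r • b x by simp [b, TensorProduct.smul_tmul']]
      exact Submodule.smul_mem _ _ (Submodule.subset_span ⟨x, rfl⟩)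
  obtain ⟨ι, e, -, hspan, hli⟩ := exists_linearIndependent' κ b
  rw [hb] at hspan
  let B := Module.Basis.mk hli hspan.ge
  have : Fintype ι := FiniteDimensional.fintypeBasisIndex B
  rw [Module.finrank_eq_card_basis B] at h
  let g : ι ↪ Fin n := (Fintype.equivFin ι).toEmbedding.trans (Fin.castLEEmb h)
  let u : Fin n → M := Function.extend g e 0
  have hu : Submodule.span κ (Set.range fun i => b (u i)) = ⊤ := by
    rw [eq_top_iff, ← hspan, Submodule.span_le]
    rintro _ ⟨j, rfl⟩
    exact Submodule.subset_span ⟨g j, congrArg b (g.injective.extend_apply e 0 j)⟩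
  exact ⟨u, Var76.KaehlerFibre.exists_notMem_smul_le P u hu⟩

theorem free_localized_of_span_of_map {A M : Type u} [CommRing A] [AddCommGroup M] [Module A M]
    (P q : Ideal A) [P.IsPrime] [q.IsPrime] (hqP : q ≤ P)
    (hker : ∀ x ∈ q, algebraMap A (Localization.AtPrime P) x = 0) {n : ℕ}
    (Φ : M →ₗ[A] (Fin n → A ⧸ q)) (w : Fin n → M) (c : A) (hc : c ∉ q)
    (h : ∀ i j, Φ (w j) i = if i = j then Ideal.Quotient.mk q c else 0)
    (u : Fin n → M) (a : A) (ha : a ∉ P) (hau : ∀ x, a • x ∈ Submodule.span A (Set.range u)) :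
    Module.Free (Localization.AtPrime P) (LocalizedModule P.primeCompl M) ∧
      Module.finrank (Localization.AtPrime P) (LocalizedModule P.primeCompl M) = n := by
  classical
  let L := FractionRing (A ⧸ q)
  have hinjL := IsFractionRing.injective (A ⧸ q) L
  let ψ : M →ₗ[A] (Fin n → L) :=
    LinearMap.pi fun i => (Algebra.linearMap (A ⧸ q) L).restrictScalars A ∘ₗ LinearMap.proj i ∘ₗ Φ
  let S := Submodule.span L (Set.range fun i => ψ (u i))
  have hS : S = ⊤ := by
    have ha' : algebraMap A L a ≠ 0 := by
      rw [IsScalarTower.algebraMap_apply A (A ⧸ q) L]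
      exact (map_ne_zero_iff _ hinjL).2 fun h0 => ha (hqP (Ideal.Quotient.eq_zero_iff_mem.1 h0))
    have hc' : algebraMap (A ⧸ q) L (Ideal.Quotient.mk q c) ≠ 0 :=
      (map_ne_zero_iff _ hinjL).2 fun h0 => hc (Ideal.Quotient.eq_zero_iff_mem.1 h0)
    have hj : ∀ j, (Pi.single j 1 : Fin n → L) ∈ S := fun j => by
      have h2 : ψ (a • w j) ∈ S := by
        have := Submodule.apply_mem_span_image_of_mem_span ψ (hau (w j))
        rw [← Set.range_comp] at this
        exact Submodule.span_le_restrictScalars A L _ this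
      rw [map_smul, ← algebraMap_smul L a] at h2
      have h3 : ψ (w j) = algebraMap (A ⧸ q) L (Ideal.Quotient.mk q c) • Pi.single j 1 := by
        ext i
        change algebraMap (A ⧸ q) L (Φ (w j) i) = _
        rw [h, Pi.smul_apply, Pi.single_apply, smul_eq_mul]
        split_ifs <;> simp
      have h4 := (S.smul_mem_iff ha').1 h2
      rw [h3] at h4
      exact (S.smul_mem_iff hc').1 h4
    rw [eq_top_iff]
    intro x _
    rw [pi_eq_sum_univ' x]
    exact sum_mem fun j _ => S.smul_mem _ (hj j)
  have hli : LinearIndependent L fun i => ψ (u i) :=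
    linearIndependent_of_top_le_span_of_card_eq_finrank hS.ge (by rw [Module.finrank_fin_fun, Fintype.card_fin])
  let T : Fin n → LocalizedModule P.primeCompl M := fun i => LocalizedModule.mk (u i) 1
  have hT : LinearIndependent (Localization.AtPrime P) T := by
    rw [Fintype.linearIndependent_iff]
    intro g hg i
    obtain ⟨b, hb⟩ := IsLocalization.exist_integer_multiples_of_finite P.primeCompl g
    choose r hr using hb
    have h1 : LocalizedModule.mkLinearMap P.primeCompl M (∑ j, r j • u j) = 0 := by
      rw [map_sum]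
      have h2 : (b : A) • ∑ j, g j • T j = 0 := by rw [hg, smul_zero]
      rw [Finset.smul_sum] at h2
      refine Eq.trans (Finset.sum_congr rfl fun j _ => ?_) h2
      rw [map_smul, ← smul_assoc, ← hr j, algebraMap_smul]
      rfl
    obtain ⟨s, hs⟩ := (IsLocalizedModule.eq_zero_iff P.primeCompl (LocalizedModule.mkLinearMap P.primeCompl M)).1 h1
    rw [Submonoid.smul_def, Finset.smul_sum] at hs
    have h3 : ∑ j, algebraMap A L ((s : A) * r j) • ψ (u j) = 0 := by
      rw [← map_zero ψ, ← hs, map_sum]
      refine Finset.sum_congr rfl fun j _ => ?_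
      rw [smul_smul, map_smul, algebraMap_smul]
    have h4 := Fintype.linearIndependent_iff.1 hli _ h3 i
    rw [IsScalarTower.algebraMap_apply A (A ⧸ q) L, map_eq_zero_iff _ hinjL, Ideal.Quotient.algebraMap_eq,
      Ideal.Quotient.eq_zero_iff_mem] at h4
    have h5 : algebraMap A (Localization.AtPrime P) (r i) = 0 :=
      hker _ ((‹q.IsPrime›.mem_or_mem h4).resolve_left fun h => s.2 (hqP h))
    rw [hr i, Algebra.smul_def] at h5
    exact (IsLocalization.map_units (Localization.AtPrime P) b).mul_right_eq_zero.1 h5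
  let B := Module.Basis.mk hT (span_localized_of_smul_mem P u a ha hau).ge
  exact ⟨Module.Free.of_basis B, by rw [Module.finrank_eq_card_basis B, Fintype.card_fin]⟩

theorem height_add_dim_le {A : Type u} [CommRing A] (P q : Ideal A) [P.IsPrime] [q.IsPrime] (hqP : q ≤ P)
    (hker : ∀ x ∈ q, algebraMap A (Localization.AtPrime P) x = 0) :
    (P.height : WithBot ℕ∞) + ringKrullDim (A ⧸ P) ≤ ringKrullDim (A ⧸ q) := by
  let B := A ⧸ q
  let P' : Ideal B := P.map (Ideal.Quotient.mk q)
  have : P'.IsPrime := Ideal.map_isPrime_of_surjective Ideal.Quotient.mk_surjective (by rwa [Ideal.mk_ker])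
  have hmap : ∀ r : Ideal A, q ≤ r → (r.map (Ideal.Quotient.mk q)).comap (Ideal.Quotient.mk q) = r := fun r hr => by
    rw [Ideal.comap_map_of_surjective _ Ideal.Quotient.mk_surjective, ← RingHom.ker_eq_comap_bot, Ideal.mk_ker,
      sup_eq_left.2 hr]
  have hP : P.height ≤ P'.height := by
    rw [(⟨P, inferInstance⟩ : PrimeSpectrum A).height_eq_orderHeight,
      (⟨P', inferInstance⟩ : PrimeSpectrum B).height_eq_orderHeight]
    refine Order.height_le fun l hl => ?_
    have hle : ∀ i, (l i).asIdeal ≤ P := fun i => by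
      have h1 : l i ≤ RelSeries.last l := l.monotone (Fin.le_last i)
      rw [hl] at h1
      exact h1
    have hq : ∀ i, q ≤ (l i).asIdeal := fun i x hx => by
      obtain ⟨s, hs⟩ := (IsLocalization.map_eq_zero_iff P.primeCompl (Localization.AtPrime P) x).1 (hker x hx)
      exact ((l i).2.mem_or_mem (hs ▸ zero_mem _ : (s : A) * x ∈ (l i).asIdeal)).resolve_left
        fun h => s.2 (hle i h)
    let l' : LTSeries (PrimeSpectrum B) := LTSeries.mk l.length
      (fun i => ⟨(l i).asIdeal.map (Ideal.Quotient.mk q),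
        Ideal.map_isPrime_of_surjective Ideal.Quotient.mk_surjective (by rw [Ideal.mk_ker]; exact hq i)⟩)
      (fun i j hij => by
        refine lt_of_le_of_ne (Ideal.map_mono (l.monotone hij.le)) fun he => ?_
        have h := congrArg (fun z : PrimeSpectrum B => z.asIdeal.comap (Ideal.Quotient.mk q)) he
        simp only [hmap _ (hq _)] at h
        exact (l.strictMono hij).ne (PrimeSpectrum.ext h))
    refine le_trans (le_of_eq rfl) (Order.length_le_height (p := l') ?_)
    change (l (Fin.last _)).asIdeal.map _ ≤ P'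
    exact Ideal.map_mono (hle _)
  have hdim : ringKrullDim (A ⧸ P) = ringKrullDim (B ⧸ P') :=
    ringKrullDim_eq_of_ringEquiv ((DoubleQuot.quotQuotEquivQuotOfLE hqP).symm)
  rw [hdim]
  exact le_trans (add_le_add (WithBot.coe_le_coe.2 hP) le_rfl) (CAlg6.height_add_ringKrullDim_quotient_le P')

/-- Frobenius as a map into the copy of the field. -/
noncomputable def frobHom (k : Type u) [Field k] (p : ℕ) [ExpChar k p] : k →+* FCopy k where
  toFun x := frobenius k p x
  map_one' := map_one (frobenius k p)
  map_mul' := map_mul (frobenius k p)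
  map_zero' := map_zero (frobenius k p)
  map_add' := map_add (frobenius k p)

/-- The identification of the copy with the field. -/
noncomputable def fcopyEquiv (k : Type u) [Field k] : FCopy k ≃+* k where
  toFun x := x
  invFun x := x
  left_inv _ := rfl
  right_inv _ := rfl
  map_mul' _ _ := rfl
  map_add' _ _ := rfl

theorem fibre_le (p : ℕ) (k A : Type u) [Field k] [ExpChar k p] (hk : (frobenius k p).Finite)
    [CommRing A] [IsLocalRing A] [IsNoetherianRing A] [Algebra k A]
    [IsAdicComplete (maximalIdeal A) A] [Module.Finite k (ResidueField A)] (P : Ideal A) [P.IsPrime]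
    (hP : CAlg.IsGeometricallyRegular k (Localization.AtPrime P)) [IsRegularLocalRing (Localization.AtPrime P)] :
    ∃ h d : ℕ, (h : ℕ∞) ≤ P.height ∧ ringKrullDim (A ⧸ P) = d ∧ Module.finrank P.ResidueField
      (P.ResidueField ⊗[A] AdicCompletion (maximalIdeal A) (KaehlerDifferential k A)) ≤ h + d := by
  obtain ⟨-, hloc, hc, d, w, hd, hw, hwl, hwf⟩ := exists_normalization k A P
  letI : Algebra (MvPowerSeries (Fin d) k) (A ⧸ P) := w.toRingHom.toAlgebra
  have : IsScalarTower k (MvPowerSeries (Fin d) k) (A ⧸ P) :=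
    IsScalarTower.of_algebraMap_eq fun x => (w.commutes x).symm
  have : Module.Finite (MvPowerSeries (Fin d) k) (A ⧸ P) := hwf
  have : IsLocalHom (algebraMap (MvPowerSeries (Fin d) k) (A ⧸ P)) := hwl
  obtain ⟨hspanκ, hfinΩ⟩ := span_residueField_dhat k A P
  rcases ‹ExpChar k p› with _ | ⟨hprime⟩
  · obtain ⟨h, hh, hle⟩ := fibre_le_charZero k A P (d := d) hw
    exact ⟨h, d, hh, hd, hle⟩
  · have : Fact p.Prime := ⟨hprime⟩
    letI : Algebra k (FCopy k) := (frobHom k p).toAlgebra
    have : Module.Finite k (FCopy k) := hk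
    obtain ⟨h, hh, hle⟩ := fibre_le_charP k (FCopy k) p (fcopyEquiv k) (fun a => rfl)
      A P hP (d := d) hw (dhat k A) hspanκ
    exact ⟨h, d, hh, hd, hle⟩

theorem free_of_geometricallyRegular (p : ℕ) (k A : Type u) [Field k] [ExpChar k p] (hk : (frobenius k p).Finite)
    [CommRing A] [IsLocalRing A] [IsNoetherianRing A] [Algebra k A]
    [IsAdicComplete (maximalIdeal A) A] [Module.Finite k (ResidueField A)]
    (P : Ideal A) [P.IsPrime] (hP : CAlg.IsGeometricallyRegular k (Localization.AtPrime P))
    (q : Ideal A) (hq : q ∈ minimalPrimes A) (hqP : q ≤ P) (n : ℕ) (hn : ringKrullDim (A ⧸ q) = n) :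
    Module.Free (Localization.AtPrime P)
        (LocalizedModule P.primeCompl (AdicCompletion (maximalIdeal A) (KaehlerDifferential k A))) ∧
      Module.finrank (Localization.AtPrime P)
        (LocalizedModule P.primeCompl (AdicCompletion (maximalIdeal A) (KaehlerDifferential k A))) = n := by
  have : q.IsPrime := hq.1.1
  have := CAlg5.isRegularRing_of_isGeometricallyRegular hP
  have : IsRegularLocalRing (Localization.AtPrime P) := EGA4H10.regular_atPrime_of_isLocalization
    P.primeCompl (Localization.AtPrime P) P (Set.disjoint_left.2 fun x hx hxP => hx hxP)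
  have := CAlg1.isDomain_regular (Localization.AtPrime P)
  have hker : ∀ x ∈ q, algebraMap A (Localization.AtPrime P) x = 0 := by
    let r := RingHom.ker (algebraMap A (Localization.AtPrime P))
    have hr : r ≤ q := fun x hx => by
      obtain ⟨s, hs⟩ := (IsLocalization.map_eq_zero_iff P.primeCompl (Localization.AtPrime P) x).1 hx
      exact (‹q.IsPrime›.mem_or_mem (hs ▸ zero_mem q : (s : A) * x ∈ q)).resolve_left fun h => s.2 (hqP h)
    exact fun x hx => (hq.2 ⟨RingHom.ker_isPrime _, bot_le⟩ hr hx : x ∈ r)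
  obtain ⟨hspanκ, hfinΩ⟩ := span_residueField_dhat k A P
  obtain ⟨h, d, hh, hd, hle⟩ := fibre_le p k A hk P hP
  have hhd : h + d ≤ n := by
    have h1 : (h : WithBot ℕ∞) + (d : WithBot ℕ∞) ≤ (n : WithBot ℕ∞) :=
      le_trans (add_le_add (WithBot.coe_le_coe.2 hh) hd.ge) ((height_add_dim_le P q hqP hker).trans_eq hn)
    exact_mod_cast h1
  obtain ⟨u, a, ha, hau⟩ := exists_smul_mem_of_finrank_le P (hle.trans hhd)
  obtain ⟨d', hd', c, hc, Φ, w, hΦ⟩ := exists_map_to_pi k A q
  obtain rfl : n = d' := by
    have h1 : (n : WithBot ℕ∞) = (d' : WithBot ℕ∞) := hn.symm.trans hd'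
    exact_mod_cast h1
  exact free_localized_of_span_of_map P q hqP hker Φ w c hc hΦ u a ha hau

end Groth.Agent.OmegaHat14
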