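import Groth.Agent.OmegaHat14.Etale

/-!
Freeness of the localised completed differentials at étale points.
-/

set_option autoImplicit false

open IsLocalRing

namespace Groth.Agent.OmegaHat14

universe u

theorem free_of_isEtaleAt (k A : Type u) [Field k] [CommRing A] [IsLocalRing A] [IsNoetherianRing A]
    [Algebra k A] [IsAdicComplete (maximalIdeal A) A] [Module.Finite k (ResidueField A)] {m : ℕ}
    [Algebra (MvPowerSeries (Fin m) k) A]
    [IsScalarTower k (MvPowerSeries (Fin m) k) A] [IsLocalHom (algebraMap (MvPowerSeries (Fin m) k) A)]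
    [Module.Finite (MvPowerSeries (Fin m) k) A]
    (p : Ideal A) [p.IsPrime] [Algebra.IsEtaleAt (MvPowerSeries (Fin m) k) p] :
    Module.Free (Localization.AtPrime p)
        (LocalizedModule p.primeCompl (AdicCompletion (maximalIdeal A) (KaehlerDifferential k A))) ∧
      Module.finrank (Localization.AtPrime p)
        (LocalizedModule p.primeCompl (AdicCompletion (maximalIdeal A) (KaehlerDifferential k A))) = m := by
  have hspan := span_of_unramified k A p m inferInstance
  let B := Module.Basis.mk (linearIndependent_dhat k A p) hspan.ge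
  exact ⟨Module.Free.of_basis B, by rw [Module.finrank_eq_card_basis B, Fintype.card_fin]⟩

theorem exists_etale_of_span (k A : Type u) [Field k] [CommRing A] [IsLocalRing A] [IsNoetherianRing A]
    [Algebra k A] [IsAdicComplete (maximalIdeal A) A] [Module.Finite k (ResidueField A)]
    (n : ℕ) (hn : ringKrullDim A = n) (p : Ideal A) [p.IsPrime] (hp : p ≠ maximalIdeal A)
    (hq : ∃ q ∈ minimalPrimes A, q ≤ p ∧ ringKrullDim (A ⧸ q) = n)
    (s : Fin n → LocalizedModule p.primeCompl (AdicCompletion (maximalIdeal A) (KaehlerDifferential k A)))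
    (hs : Submodule.span (Localization.AtPrime p) (Set.range s) = ⊤) :
    ∃ (_ : Algebra (MvPowerSeries (Fin n) k) A) (_ : IsScalarTower k (MvPowerSeries (Fin n) k) A),
      IsLocalHom (algebraMap (MvPowerSeries (Fin n) k) A) ∧ Module.Finite (MvPowerSeries (Fin n) k) A ∧
        Algebra.IsEtaleAt (MvPowerSeries (Fin n) k) p := by
  obtain ⟨q, hqmin, hqp, hqdim⟩ := hq
  obtain ⟨i1, i2, hloc, hfin, hun⟩ := exists_unramified_of_span k A p hp
    ⟨q, hqmin, hqp, hqdim.trans hn.symm⟩ n s hs
  have : q.IsPrime := hqmin.1.1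
  exact ⟨i1, i2, hloc, hfin, isEtaleAt_of_unramified k A p q hqp hqdim⟩

end Groth.Agent.OmegaHat14
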