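import Mathlib
import Groth.Agent.SGA3a.FiniteComplete

/-!
Right exactness of completion when the middle term has finite completion (row S5991).
-/

set_option autoImplicit false

universe u

open IsLocalRing TensorProduct

namespace Groth.Agent.OmegaHat14

variable {S : Type u} [CommRing S] [IsLocalRing S] [IsNoetherianRing S] [IsAdicComplete (maximalIdeal S) S]

theorem finite_adicCompletion_of_finite_quotient (M : Type u) [AddCommGroup M] [Module S M]
    [Module.Finite S (M ⧸ (maximalIdeal S • ⊤ : Submodule S M))] :
    Module.Finite S (AdicCompletion (maximalIdeal S) M) := by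
  let I := maximalIdeal S
  let Mc := AdicCompletion I M
  obtain ⟨n, v, hv⟩ := Module.Finite.exists_fin (R := S) (M := M ⧸ (I • ⊤ : Submodule S M))
  choose w hw using fun i => Submodule.mkQ_surjective _ (v i)
  let g : Fin n → Mc := fun i => AdicCompletion.of I M (w i)
  have hfg : I.FG := IsNoetherian.noetherian _
  have : IsAdicComplete I Mc := AdicCompletion.isAdicComplete hfg
  have := SGA3a.isAdicComplete_module_of_finite (A := S) (Fin n → S)
  refine Module.Finite.of_surjective (Fintype.linearCombination S g) ?_
  refine surjective_of_mkQ_comp_surjective (I := I) fun z => ?_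
  obtain ⟨x, rfl⟩ := Submodule.mkQ_surjective _ z
  obtain ⟨ω, hω⟩ := Submodule.mkQ_surjective _ (AdicCompletion.eval I M 1 x)
  have h1 : x - AdicCompletion.of I M ω ∈ (I • ⊤ : Submodule S Mc) := by
    have : x - AdicCompletion.of I M ω ∈ (I ^ 1 • ⊤ : Submodule S Mc) := by
      rw [AdicCompletion.pow_smul_top_eq_ker_eval hfg, LinearMap.mem_ker, map_sub, AdicCompletion.eval_of, hω,
        sub_self]
    rwa [pow_one] at this
  obtain ⟨c, hc⟩ := (Submodule.mem_span_range_iff_exists_fun S).1
    (hv ▸ Submodule.mem_top : Submodule.mkQ (I • ⊤) ω ∈ _)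
  refine ⟨c, ?_⟩
  have hb : ω - ∑ i, c i • w i ∈ (I • ⊤ : Submodule S M) := by
    rw [← Submodule.Quotient.mk_eq_zero, ← Submodule.mkQ_apply, map_sub, map_sum, ← hc, sub_eq_zero]
    exact Finset.sum_congr rfl fun i _ => by rw [map_smul, hw]
  have hb' : AdicCompletion.of I M (ω - ∑ i, c i • w i) ∈ (I • ⊤ : Submodule S Mc) := by
    have := Submodule.mem_map_of_mem (f := AdicCompletion.of I M) hb
    rw [Submodule.map_smul''] at this
    exact Submodule.smul_mono le_rfl le_top this
  have hsum : Fintype.linearCombination S g c = AdicCompletion.of I M (∑ i, c i • w i) := by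
    rw [map_sum, Fintype.linearCombination_apply]
    exact Finset.sum_congr rfl fun i _ => (LinearMap.map_smul (AdicCompletion.of I M) (c i) _).symm
  rw [LinearMap.comp_apply, Submodule.mkQ_apply, Submodule.mkQ_apply, Submodule.Quotient.eq, hsum]
  rw [show AdicCompletion.of I M (∑ i, c i • w i) - x =
      -(x - AdicCompletion.of I M ω) - AdicCompletion.of I M (ω - ∑ i, c i • w i) by
    rw [map_sub]; abel]
  exact sub_mem (neg_mem h1) hb'

theorem range_map_eq_ker_map {L M N : Type u} [AddCommGroup L] [Module S L] [AddCommGroup M] [Module S M]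
    [AddCommGroup N] [Module S N] [Module.Finite S (AdicCompletion (maximalIdeal S) M)]
    (f : L →ₗ[S] M) (g : M →ₗ[S] N) (hfg : Function.Exact f g) (hg : Function.Surjective g) :
    LinearMap.range (AdicCompletion.map (maximalIdeal S) f) =
      LinearMap.ker (AdicCompletion.map (maximalIdeal S) g) := by
  let I := maximalIdeal S
  refine le_antisymm ?_ fun x hx => ?_
  · rintro _ ⟨y, rfl⟩
    rw [LinearMap.mem_ker]
    refine AdicCompletion.ext fun n => ?_
    obtain ⟨l, hl⟩ := Submodule.mkQ_surjective _ (y.val n)
    simp only [AdicCompletion.map_val_apply, AdicCompletion.val_zero, Pi.zero_apply, ← hl]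
    change Submodule.mkQ _ (g (f l)) = 0
    rw [hfg.apply_apply_eq_zero, map_zero]
  · let Mc := AdicCompletion I M
    let K : Submodule S Mc :=
      (LinearMap.range (AdicCompletion.map I f)).restrictScalars S
    suffices hK : ∀ n : ℕ, x ∈ K ⊔ (I ^ n • ⊤ : Submodule S Mc) by
      have : IsHausdorff I (Mc ⧸ K) :=
        (SGA3a.isAdicComplete_module_of_finite (A := S) (Mc ⧸ K)).toIsHausdorff
      have h0 : K.mkQ x = 0 := IsHausdorff.haus this _ fun n => by
        rw [SModEq.zero]
        obtain ⟨a, ha, b, hb, rfl⟩ := Submodule.mem_sup.1 (hK n)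
        rw [map_add, Submodule.mkQ_apply, (Submodule.Quotient.mk_eq_zero K).2 ha, zero_add]
        have := Submodule.mem_map_of_mem (f := K.mkQ) hb
        rw [Submodule.map_smul'', Submodule.map_top, Submodule.range_mkQ] at this
        exact this
      exact (Submodule.Quotient.mk_eq_zero K).1 h0
    intro n
    obtain ⟨m, hm⟩ := Submodule.mkQ_surjective _ (x.val n)
    have h1 : g m ∈ (I ^ n • ⊤ : Submodule S N) := by
      have h := congrArg (fun y => y.val n) (LinearMap.mem_ker.1 hx)
      simp only [AdicCompletion.map_val_apply, AdicCompletion.val_zero, Pi.zero_apply, ← hm] at h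
      exact (Submodule.Quotient.mk_eq_zero _).1 h
    rw [← LinearMap.range_eq_top.2 hg, ← Submodule.map_top, ← Submodule.map_smul''] at h1
    obtain ⟨m', hm', hgm⟩ := h1
    obtain ⟨l, hl⟩ := (hfg (m - m')).1 (by rw [map_sub, hgm, sub_self])
    refine Submodule.mem_sup.2 ⟨AdicCompletion.map I f (AdicCompletion.of I L l), ⟨_, rfl⟩,
      x - AdicCompletion.map I f (AdicCompletion.of I L l), ?_, add_sub_cancel _ _⟩
    rw [AdicCompletion.pow_smul_top_eq_ker_eval (IsNoetherian.noetherian I), LinearMap.mem_ker, map_sub,
      AdicCompletion.map_of, AdicCompletion.eval_of, hl, map_sub,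
      (Submodule.Quotient.mk_eq_zero _).2 hm' |> fun h => (h : Submodule.mkQ _ m' = 0), sub_zero]
    exact sub_eq_zero.2 hm.symm

theorem finite_kaehler_quotient (k : Type u) [CommRing k] [Algebra k S]
    [Module.Finite (ResidueField S) (Ω[ResidueField S⁄k])] :
    Module.Finite S (Ω[S⁄k] ⧸ (maximalIdeal S • ⊤ : Submodule S Ω[S⁄k])) := by
  have hsurj : Function.Surjective (algebraMap S (ResidueField S)) := Ideal.Quotient.mk_surjective
  have : Module.Finite S (ResidueField S) :=
    Module.Finite.of_surjective (Algebra.linearMap S (ResidueField S)) hsurj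
  have : Module.Finite S (Ω[ResidueField S⁄k]) := Module.Finite.trans (ResidueField S) _
  let g := (KaehlerDifferential.mapBaseChange k S (ResidueField S)).restrictScalars S
  let h := KaehlerDifferential.kerCotangentToTensor k S (ResidueField S)
  have hex := KaehlerDifferential.exact_kerCotangentToTensor_mapBaseChange k S (ResidueField S) hsurj
  have hgh : (LinearMap.range h).restrictScalars S = LinearMap.ker g := by
    ext z
    exact ((hex z).symm)
  have : Module.Finite S (RingHom.ker (algebraMap S (ResidueField S))).Cotangent :=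
    Module.Finite.of_surjective _ (Ideal.toCotangent_surjective _)
  have hfin : (⊤ : Submodule S (ResidueField S ⊗[S] Ω[S⁄k])).FG := by
    refine Submodule.fg_of_fg_map_of_fg_inf_ker g (IsNoetherian.noetherian _) ?_
    rw [top_inf_eq, ← hgh]
    exact Module.Finite.iff_fg.1 (inferInstanceAs (Module.Finite S (LinearMap.range (h.restrictScalars S))))
  have : Module.Finite S (ResidueField S ⊗[S] Ω[S⁄k]) := ⟨hfin⟩
  have : Module.Finite S ((S ⧸ maximalIdeal S) ⊗[S] Ω[S⁄k]) := this
  exact Module.Finite.equiv (TensorProduct.quotTensorEquivQuotSMul Ω[S⁄k] (maximalIdeal S))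

end Groth.Agent.OmegaHat14
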