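import Mathlib
import Groth.Agent.OmegaHat14.Unram
import Groth.Agent.OmegaHat14.Select
import Groth.Agent.Var76.KaehlerFibre

/-!
Generating the localised completed differentials by differentials of unit multiples.
-/

set_option autoImplicit false

open IsLocalRing
open scoped TensorProduct

namespace Groth.Agent.OmegaHat14

universe u

theorem exists_unit_notMem {k A M : Type u} [CommRing k] [CommRing A] [IsLocalRing A] [Algebra k A] [AddCommGroup M]
    [Module A M] [Module k M] (P : Ideal A) [P.IsPrime] (D : Derivation k A M)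
    (hD : Submodule.span P.ResidueField (Set.range fun a => (1 : P.ResidueField) ⊗ₜ[A] D a) = ⊤)
    {x : A} (hx : x ∉ P) (W : Submodule P.ResidueField (P.ResidueField ⊗[A] M)) (hW : W ≠ ⊤) :
    ∃ u : Aˣ, (1 : P.ResidueField) ⊗ₜ[A] D ((u : A) * x) ∉ W := by
  by_contra! hall
  have hdx : (1 : P.ResidueField) ⊗ₜ[A] D x ∈ W := by simpa using hall 1
  have hu : ∀ u : Aˣ, (1 : P.ResidueField) ⊗ₜ[A] D (u : A) ∈ W := fun u => by
    have h := hall u
    rw [D.leibniz, TensorProduct.tmul_add, TensorProduct.tmul_smul, TensorProduct.tmul_smul] at h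
    have h1 : (u : A) • ((1 : P.ResidueField) ⊗ₜ[A] D x) ∈ W := W.smul_of_tower_mem _ hdx
    have h2 := (W.add_mem_iff_right h1).1 h
    rw [← algebraMap_smul P.ResidueField x] at h2
    exact (W.smul_mem_iff fun h0 => hx (Ideal.algebraMap_residueField_eq_zero.1 h0)).1 h2
  refine hW (eq_top_iff.2 (hD ▸ Submodule.span_le.2 ?_))
  rintro _ ⟨a, rfl⟩
  rcases IsLocalRing.isUnit_or_isUnit_one_sub_self a with ha | ha
  · exact hu ha.unit
  · have := W.neg_mem (hu ha.unit)
    simpa [map_sub, TensorProduct.tmul_sub, TensorProduct.tmul_neg, neg_mem_iff] using this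

theorem exists_units_span {k A : Type u} {M : Type u} [CommRing k] [CommRing A] [IsLocalRing A] [Algebra k A]
    [AddCommGroup M] [Module A M] [Module k M] [Module.Finite A M] (P : Ideal A) [P.IsPrime] (D : Derivation k A M)
    (hD : Submodule.span P.ResidueField (Set.range fun a => (1 : P.ResidueField) ⊗ₜ[A] D a) = ⊤)
    {n : ℕ} (hn : Module.finrank P.ResidueField (P.ResidueField ⊗[A] M) ≤ n)
    (x : Fin n → A) (hx : ∀ i, x i ∉ P) :
    ∃ u : Fin n → Aˣ, Submodule.span P.ResidueField
      (Set.range fun i => (1 : P.ResidueField) ⊗ₜ[A] D ((u i : A) * x i)) = ⊤ := by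
  suffices h : ∀ i ≤ n, ∃ u : Fin n → Aˣ, min i (Module.finrank P.ResidueField (P.ResidueField ⊗[A] M)) ≤
      Module.finrank P.ResidueField (Submodule.span P.ResidueField
        ((fun j => (1 : P.ResidueField) ⊗ₜ[A] D ((u j : A) * x j)) '' {j | (j : ℕ) < i})) by
    obtain ⟨u, hu⟩ := h n le_rfl
    rw [min_eq_right hn] at hu
    refine ⟨u, Submodule.eq_top_of_finrank_eq (le_antisymm (Submodule.finrank_le _) ?_)⟩
    refine hu.trans (le_of_eq ?_)
    rw [← Set.image_univ]
    congr 3
    all_goals simp
  intro i
  induction i with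
  | zero => exact fun _ => ⟨fun _ => 1, by simp⟩
  | succ i ih =>
    intro hi
    obtain ⟨u, hu⟩ := ih (by omega)
    set v := fun (u : Fin n → Aˣ) (j : Fin n) => (1 : P.ResidueField) ⊗ₜ[A] D ((u j : A) * x j) with hv
    by_cases htop : Submodule.span P.ResidueField (v u '' {j | (j : ℕ) < i}) = ⊤
    · refine ⟨u, (min_le_right _ _).trans (le_of_eq ?_)⟩
      have hmono : Submodule.span P.ResidueField (v u '' {j | (j : ℕ) < i + 1}) = ⊤ :=
        eq_top_iff.2 (htop ▸ Submodule.span_mono (Set.image_mono fun j hj => by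
          simp only [Set.mem_ofPred_eq] at hj ⊢; omega))
      rw [hmono, finrank_top]
    · obtain ⟨w, hw⟩ := exists_unit_notMem P D hD (hx ⟨i, by omega⟩) _ htop
      refine ⟨Function.update u ⟨i, by omega⟩ w, ?_⟩
      have hlt : Submodule.span P.ResidueField (v u '' {j | (j : ℕ) < i}) <
          Submodule.span P.ResidueField (v (Function.update u ⟨i, by omega⟩ w) '' {j | (j : ℕ) < i + 1}) := by
        refine lt_of_le_of_ne (Submodule.span_mono ?_) fun he => hw (he ▸ Submodule.subset_span ⟨⟨i, by omega⟩, by simp, by simp [hv]⟩)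
        rintro _ ⟨j, hj, rfl⟩
        have hji : j ≠ ⟨i, by omega⟩ := fun h => by subst h; simp at hj
        exact ⟨j, by simp only [Set.mem_ofPred_eq] at hj ⊢; omega, by simp [hv, Function.update_of_ne hji]⟩
      have := Submodule.finrank_lt_finrank_of_lt hlt
      change min i _ ≤ Module.finrank P.ResidueField (Submodule.span P.ResidueField (v u '' {j | (j : ℕ) < i})) at hu
      change _ ≤ Module.finrank P.ResidueField (Submodule.span P.ResidueField (v _ '' {j | (j : ℕ) < i + 1}))
      omega

theorem finrank_fibre_le_of_span_localized {A M : Type u} [CommRing A] [AddCommGroup M] [Module A M]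
    (P : Ideal A) [P.IsPrime] {n : ℕ} (s : Fin n → LocalizedModule P.primeCompl M)
    (hs : Submodule.span (Localization.AtPrime P) (Set.range s) = ⊤) :
    Module.finrank P.ResidueField (P.ResidueField ⊗[A] M) ≤ n := by
  choose m hm using fun i => IsLocalizedModule.surj P.primeCompl (LocalizedModule.mkLinearMap P.primeCompl M) (s i)
  have hspan : Submodule.span P.ResidueField (Set.range fun i => (1 : P.ResidueField) ⊗ₜ[A] (m i).1) = ⊤ := by
    rw [eq_top_iff]
    rintro z -
    induction z using TensorProduct.induction_on with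
    | zero => simp
    | add x y hx hy => exact add_mem hx hy
    | tmul r y =>
      rw [show r ⊗ₜ[A] y = r • ((1 : P.ResidueField) ⊗ₜ[A] y) by simp [TensorProduct.smul_tmul']]
      refine Submodule.smul_mem _ _ ?_
      obtain ⟨c, hc⟩ := (Submodule.mem_span_range_iff_exists_fun _).1
        (hs ▸ Submodule.mem_top : LocalizedModule.mkLinearMap P.primeCompl M y ∈ Submodule.span _ (Set.range s))
      obtain ⟨b, hb⟩ := IsLocalization.exist_integer_multiples_of_finite P.primeCompl c
      choose a ha using hb
      let t : A := ∏ i, ((m i).2 : A)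
      have htP : t ∉ P := fun h => by
        obtain ⟨i, -, hi⟩ := (Ideal.IsPrime.prod_mem_iff (p := P)).1 h
        exact (m i).2.2 hi
      let e : Fin n → A := fun i => a i * ∏ j ∈ Finset.univ.erase i, ((m j).2 : A)
      have h1 : LocalizedModule.mkLinearMap P.primeCompl M ((t * (b : A)) • y) =
          LocalizedModule.mkLinearMap P.primeCompl M (∑ i, e i • (m i).1) := by
        rw [map_smul, map_sum, mul_smul, ← hc, Finset.smul_sum, Finset.smul_sum]
        refine Finset.sum_congr rfl fun i _ => ?_
        have h4 : (b : A) • (c i • s i) = a i • s i := by rw [← smul_assoc, ← ha i, algebraMap_smul]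
        rw [map_smul, ← hm i, Submonoid.smul_def, smul_smul, mul_smul t, h4, smul_smul, smul_smul]
        congr 1
        change t * a i = a i * (∏ j ∈ Finset.univ.erase i, ((m j).2 : A)) * ((m i).2 : A)
        rw [mul_assoc, Finset.prod_erase_mul _ _ (Finset.mem_univ i), mul_comm]
      obtain ⟨w, hw⟩ := (IsLocalizedModule.eq_iff_exists P.primeCompl _).1 h1
      rw [Submonoid.smul_def, Submonoid.smul_def, smul_smul] at hw
      have h2 := congrArg (fun q => (1 : P.ResidueField) ⊗ₜ[A] q) hw
      simp only [TensorProduct.tmul_smul, TensorProduct.tmul_sum] at h2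
      have h3 : ((w : A) * (t * (b : A))) • ((1 : P.ResidueField) ⊗ₜ[A] y) ∈
          Submodule.span P.ResidueField (Set.range fun i => (1 : P.ResidueField) ⊗ₜ[A] (m i).1) := by
        rw [h2]
        exact Submodule.smul_of_tower_mem _ _ (sum_mem fun i _ =>
          Submodule.smul_of_tower_mem _ _ (Submodule.subset_span ⟨i, rfl⟩))
      rw [← algebraMap_smul P.ResidueField] at h3
      refine ((Submodule.smul_mem_iff _ fun h0 => ?_).1 h3)
      rcases ‹P.IsPrime›.mem_or_mem (Ideal.algebraMap_residueField_eq_zero.1 h0) with h | h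
      · exact w.2 h
      · exact (‹P.IsPrime›.mem_or_mem h).elim htP b.2
  calc Module.finrank P.ResidueField (P.ResidueField ⊗[A] M)
      = (Set.range fun i => (1 : P.ResidueField) ⊗ₜ[A] (m i).1).finrank P.ResidueField := by
        rw [Set.finrank, hspan, finrank_top]
    _ ≤ Fintype.card (Fin n) := finrank_range_le_card _
    _ = n := Fintype.card_fin n

theorem exists_units_generate (k A : Type u) [Field k] [CommRing A] [IsLocalRing A] [IsNoetherianRing A]
    [Algebra k A] [IsAdicComplete (maximalIdeal A) A] [Module.Finite k (ResidueField A)] (P : Ideal A) [P.IsPrime]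
    {n : ℕ} (s : Fin n → LocalizedModule P.primeCompl (AdicCompletion (maximalIdeal A) (KaehlerDifferential k A)))
    (hs : Submodule.span (Localization.AtPrime P) (Set.range s) = ⊤)
    (x : Fin n → A) (hx : ∀ i, x i ∉ P) :
    ∃ u : Fin n → Aˣ, Submodule.span (Localization.AtPrime P)
      (Set.range fun i => (LocalizedModule.mk (dhat k A ((u i : A) * x i)) 1 :
        LocalizedModule P.primeCompl (AdicCompletion (maximalIdeal A) (KaehlerDifferential k A)))) = ⊤ := by
  obtain ⟨hD, hfin⟩ := span_residueField_dhat k A P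
  obtain ⟨u, hu⟩ := exists_units_span P (dhat k A) hD (finrank_fibre_le_of_span_localized P s hs) x hx
  obtain ⟨a, ha, hau⟩ := Var76.KaehlerFibre.exists_notMem_smul_le P _ hu
  exact ⟨u, span_localized_of_smul_mem P _ a ha hau⟩

end Groth.Agent.OmegaHat14
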